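import Groth.Agent.GaDual.K771.HatTwo

/-!
# Double connecting maps

For short exact sequences `0 ⟶ G ⟶ I ⟶ Q ⟶ 0` and `0 ⟶ Q ⟶ J ⟶ R ⟶ 0`: `dd : R(W) ⟶ H^2(W, G)`.
-/

set_option autoImplicit false
universe u
open CategoryTheory CategoryTheory.Limits AlgebraicGeometry Opposite

noncomputable section

namespace K674.DD

open Groth.Agent.Etdl.H432.Sec K828

local notation "𝒦" => Scheme.fppfPrecoverage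

variable {X : Scheme.{u}} (𝓗 : CohT 𝒦 X) {G I Q J R : EtFppf.AbF X} {i₁ : G ⟶ I} {π₁ : I ⟶ Q} {w₁ : i₁ ≫ π₁ = 0}
  (hA : (ShortComplex.mk i₁ π₁ w₁).ShortExact) {i₂ : Q ⟶ J} {π₂ : J ⟶ R} {w₂ : i₂ ≫ π₂ = 0}
  (hB : (ShortComplex.mk i₂ π₂ w₂).ShortExact)

theorem sec_symm_r {F : EtFppf.AbF X} {W W' : Over X} (k : W' ⟶ W) (w : Γs F W) :
    𝓗.sec.symm (r F k w) = 𝓗.res k (𝓗.sec.symm w) := by
  apply 𝓗.sec.injective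
  rw [𝓗.sec_res, AddEquiv.apply_symm_apply, AddEquiv.apply_symm_apply]
  rfl

theorem sec_symm_m {F F' : EtFppf.AbF X} (φ : F ⟶ F') {W : Over X} (w : Γs F W) :
    𝓗.sec.symm (m φ W w) = 𝓗.map φ (𝓗.sec.symm w) := by
  apply 𝓗.sec.injective
  rw [𝓗.sec_map, AddEquiv.apply_symm_apply, AddEquiv.apply_symm_apply]
  rfl

/-- One connecting map. -/
def d₁ {n : ℕ} (W : Over X) : 𝓗.H Q n W →+ 𝓗.H G (n + 1) W := 𝓗.del hA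

/-- The double connecting map on sections. -/
def dd (W : Over X) : Γs R W →+ 𝓗.H G 2 W :=
  (d₁ 𝓗 hA W).comp ((d₁ 𝓗 hB W).comp 𝓗.sec.symm.toAddMonoidHom)

theorem dd_apply {W : Over X} (w : Γs R W) : dd 𝓗 hA hB W w = d₁ 𝓗 hA W (d₁ 𝓗 hB W (𝓗.sec.symm w)) := rfl

theorem d₁_res {n : ℕ} {W W' : Over X} (k : W' ⟶ W) (x : 𝓗.H Q n W) :
    d₁ 𝓗 hA W' (𝓗.res k x) = 𝓗.res k (d₁ 𝓗 hA W x) := 𝓗.del_res hA k x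

theorem d₁_map {n : ℕ} {W : Over X} (x : 𝓗.H I n W) : d₁ 𝓗 hA W (𝓗.map π₁ x) = 0 := 𝓗.del_map hA x

theorem exists_map {n : ℕ} {W : Over X} (x : 𝓗.H Q n W) (hx : d₁ 𝓗 hA W x = 0) :
    ∃ y : 𝓗.H I n W, 𝓗.map π₁ y = x := 𝓗.exact₃ hA x hx

theorem exists_d₁ {n : ℕ} {W : Over X} (x : 𝓗.H G (n + 1) W) (hx : 𝓗.map i₁ x = 0) :
    ∃ y : 𝓗.H Q n W, d₁ 𝓗 hA W y = x := 𝓗.exact₁ hA x hx

theorem res_dd {W W' : Over X} (k : W' ⟶ W) (w : Γs R W) : 𝓗.res k (dd 𝓗 hA hB W w) = dd 𝓗 hA hB W' (r R k w) := by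
  rw [dd_apply, dd_apply, sec_symm_r, d₁_res, d₁_res]

/-- The double connecting map commutes with endomorphisms of the two short exact sequences. -/
theorem map_dd {φG : G ⟶ G} {φI : I ⟶ I} {φQ : Q ⟶ Q} {φJ : J ⟶ J} {φR : R ⟶ R} (h₁ : φG ≫ i₁ = i₁ ≫ φI)
    (h₂ : φI ≫ π₁ = π₁ ≫ φQ) (h₃ : φQ ≫ i₂ = i₂ ≫ φJ) (h₄ : φJ ≫ π₂ = π₂ ≫ φR) {W : Over X} (w : Γs R W) :
    dd 𝓗 hA hB W (m φR W w) = 𝓗.map φG (dd 𝓗 hA hB W w) := by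
  rw [dd_apply, dd_apply, sec_symm_m]
  have e₁ : d₁ 𝓗 hB W (𝓗.map φR (𝓗.sec.symm w)) = 𝓗.map φQ (d₁ 𝓗 hB W (𝓗.sec.symm w)) :=
    𝓗.del_nat hB hB (ShortComplex.Hom.mk φQ φJ φR h₃ h₄) _
  rw [e₁]
  exact 𝓗.del_nat hA hA (ShortComplex.Hom.mk φG φI φQ h₁ h₂) _

theorem dd_m {W : Over X} (j : Γs J W) : dd 𝓗 hA hB W (m π₂ W j) = 0 := by
  rw [dd_apply, sec_symm_m, d₁_map, map_zero]

theorem exists_of_dd {W : Over X} (hI : ∀ b : 𝓗.H I 1 W, b = 0) (w : Γs R W) (hw : dd 𝓗 hA hB W w = 0) :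
    ∃ j : Γs J W, m π₂ W j = w := by
  obtain ⟨b, hb⟩ := exists_map 𝓗 hA _ hw
  rw [hI b, map_zero] at hb
  obtain ⟨a, ha⟩ := exists_map 𝓗 hB _ hb.symm
  refine ⟨𝓗.sec a, ?_⟩
  apply 𝓗.sec.symm.injective
  rw [sec_symm_m, AddEquiv.symm_apply_apply, ha]
  rfl

theorem exists_dd {W : Over X} (hJ : ∀ b : 𝓗.H J 1 W, b = 0) (x : 𝓗.H G 2 W) (hx : 𝓗.map i₁ x = 0) :
    ∃ w : Γs R W, dd 𝓗 hA hB W w = x := by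
  obtain ⟨y, rfl⟩ := exists_d₁ 𝓗 hA x hx
  obtain ⟨z, rfl⟩ := exists_d₁ 𝓗 hB y (hJ _)
  exact ⟨𝓗.sec z, by rw [dd_apply, AddEquiv.symm_apply_apply]⟩

include hA in
theorem exists_sec_lift {W : Over X} (hG : ∀ b : 𝓗.H G 1 W, b = 0) (q : Γs Q W) : ∃ s : Γs I W, m π₁ W s = q := by
  obtain ⟨b, hb⟩ := exists_map 𝓗 hA (𝓗.sec.symm q) (hG _)
  refine ⟨𝓗.sec b, ?_⟩
  apply 𝓗.sec.symm.injective
  rw [sec_symm_m, AddEquiv.symm_apply_apply, hb]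

end K674.DD
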