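import Groth.Agent.GaDual.K674.DD
import Groth.Agent.GaDual.K771.Char

/-!
# The evaluation pairing `H^2(X, 𝓗om(G_a, G_m)) × G_a(W) ⟶ H^2(W, G_m)`

`Eval 𝓗`: a surjection `α : Z ⟶ H^2(X, Gad)` and biadditive natural maps `E W : Z × G_a(W) ⟶ H^2(W, G_m)` with
`α z = 0 ↔ E z (coordinate of the affine line) = 0`, linear for the action of the functions on `G_a` and its dual; `exists_eval`: it exists if `𝓔xt¹(G_a, G_m) = 0` and sections of
`G_m`-quotients over the affine plane lift.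
-/

set_option autoImplicit false
set_option linter.unusedSectionVars false
universe u
open CategoryTheory CategoryTheory.Limits AlgebraicGeometry Opposite

noncomputable section

namespace K674.EvTwo

open Groth.Agent.Etdl.H432.Sec K771.Pts K771.Aff K771.RedExt K771.Line K771.HomEv K771.HomAcy K771.HatTwo K771.Char K828
  K674.DD

local notation "𝒦" => Scheme.fppfPrecoverage

variable {X : Scheme.{u}}

/-- The morphism to the final object. -/
abbrev tm (W : Over X) : W ⟶ Over.mk (𝟙 X) := Over.mkIdTerminal.from W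

theorem comp_tm {W W' : Over X} (k : W' ⟶ W) : k ≫ tm W = tm W' := Over.mkIdTerminal.hom_ext _ _

/-- Multiplication by a function on the additive group. -/
def mulGa (a : O (Over.mk (𝟙 X) : Over X)) : Ga X ⟶ Ga X :=
  mkH (fun W => AddMonoidHom.mk' (fun y => gas (ro (tm W) a * ga y)) (fun y y' => by
    rw [ga_add, mul_add, gas_add])) (fun W W' k y => by
      change r (Ga X) k (gas _) = gas _
      rw [r_gas, map_mul, ga_r, ro_ro, comp_tm])

theorem m_mulGa (a : O (Over.mk (𝟙 X) : Over X)) {W : Over X} (y : Γs (Ga X) W) :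
    m (mulGa a) W y = gas (ro (tm W) a * ga y) := rfl

/-- Precomposition with multiplication by a function. -/
abbrev lm (F : EtFppf.AbF X) (a : O (Over.mk (𝟙 X) : Over X)) : hom (Ga X) F ⟶ hom (Ga X) F :=
  HomSh.homShMap (EtFppf.J X) (mulGa a) (𝟙 F)

/-- The action of a function on the dual of the additive group (precomposition with multiplication by it). -/
abbrev mulGad (a : O (Over.mk (𝟙 X) : Over X)) : Gad X ⟶ Gad X := lm (Gm X) a

/-- The evaluation pairing. -/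
structure Eval (𝓗 : CohT 𝒦 X) where
  Z : Type (u + 1)
  grp : AddCommGroup Z
  α : Z →+ 𝓗.H (Gad X) 2 (Over.mk (𝟙 X))
  sur : Function.Surjective α
  E : ∀ W : Over X, Z →+ (Γs (Ga X) W →+ 𝓗.H (Gm X) 2 W)
  nat : ∀ {W W' : Over X} (k : W' ⟶ W) (z : Z) (y : Γs (Ga X) W), 𝓗.res k (E W z y) = E W' z (r (Ga X) k y)
  iff : ∀ z : Z, α z = 0 ↔ E (Red.Ga X) z (un X) = 0
  kill : ∀ (z : Z) {V : Over X}, IsAffine V.left → 𝓗.res (tm V) (α z) = 0 →
    ∀ {W : Over X} (_ : W ⟶ V) (y : Γs (Ga X) W), E W z y = 0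
  mul : ∀ (a : O (Over.mk (𝟙 X) : Over X)) (z : Z), ∃ z' : Z, α z' = 𝓗.map (mulGad a) (α z) ∧
    ∀ (W : Over X) (y : Γs (Ga X) W), E W z' y = E W z (m (mulGa a) W y)

attribute [instance] Eval.grp

section formal

variable {C R : EtFppf.AbF X} (κ : C ⟶ hom (Ga X) R)

/-- The value of a global section of `C ⟶ 𝓗om(G_a, R)`. -/
def u (W : Over X) : Γs C (Over.mk (𝟙 X)) →+ (Γs (Ga X) W →+ Γs R W) where
  toFun z := ev (m κ (Over.mk (𝟙 X)) z) (tm W)
  map_zero' := by rw [map_zero]; rfl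
  map_add' z z' := by rw [map_add]; rfl

theorem u_apply {W : Over X} (z : Γs C (Over.mk (𝟙 X))) (y : Γs (Ga X) W) :
    u κ W z y = ev (m κ (Over.mk (𝟙 X)) z) (tm W) y := rfl

theorem r_u {W W' : Over X} (k : W' ⟶ W) (z : Γs C (Over.mk (𝟙 X))) (y : Γs (Ga X) W) :
    r R k (u κ W z y) = u κ W' z (r (Ga X) k y) := by
  rw [u_apply, u_apply, ev_r', comp_tm]

theorem lm_comm {F F' : EtFppf.AbF X} (φ : F ⟶ F') (a : O (Over.mk (𝟙 X) : Over X)) :
    lm F a ≫ HomSh.homShMap (EtFppf.J X) (𝟙 (Ga X)) φ = HomSh.homShMap (EtFppf.J X) (𝟙 (Ga X)) φ ≫ lm F' a := by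
  refine hom_ext_m fun W s => ?_
  refine ev_ext (F := Ga X) (G := F') (T := W) fun W' h y => ?_
  rfl

theorem exists_coker {F G H : EtFppf.AbF X} (c : F ⟶ G) (d : G ⟶ H) (hcd : c ≫ d = 0) (hm : Mono c)
    (hex : (ShortComplex.mk c d hcd).Exact) : ∃ (C : EtFppf.AbF X) (π : G ⟶ C) (κ : C ⟶ H)
      (hw : c ≫ π = 0) (_ : (ShortComplex.mk c π hw).ShortExact) (_ : π ≫ κ = d) (_ : Mono κ),
      ∀ (a : F ⟶ F) (b : G ⟶ G) (e : H ⟶ H), a ≫ c = c ≫ b → b ≫ d = d ≫ e →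
        ∃ l : C ⟶ C, b ≫ π = π ≫ l ∧ l ≫ κ = κ ≫ e := by
  refine ⟨cokernel c, cokernel.π c, cokernel.desc c d hcd, cokernel.condition c,
    { exact := ShortComplex.exact_cokernel _
      mono_f := hm
      epi_g := inferInstanceAs (Epi (cokernel.π c)) }, cokernel.π_desc _ _ _,
    (ShortComplex.exact_iff_mono_cokernel_desc _).1 hex, fun a b e h1 h2 => ?_⟩
  have h3 : c ≫ b ≫ cokernel.π c = 0 := by
    rw [← Category.assoc, ← h1, Category.assoc, cokernel.condition, comp_zero]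
  refine ⟨cokernel.desc c (b ≫ cokernel.π c) h3, (cokernel.π_desc _ _ _).symm, ?_⟩
  rw [← cancel_epi (cokernel.π c), ← Category.assoc, ← Category.assoc, cokernel.π_desc, cokernel.π_desc,
    Category.assoc, cokernel.π_desc, h2]

end formal

variable [IsAffine X] [IsReduced X] [IsAffine (Red.Ga X).left]

theorem exists_eval (𝓗 : CohT 𝒦 X)
    {I Q J R : EtFppf.AbF X} {i₁ : Gm X ⟶ I} {π₁ : I ⟶ Q} {w₁ : i₁ ≫ π₁ = 0}
    (hA : (ShortComplex.mk i₁ π₁ w₁).ShortExact) [Injective I] {i₂ : Q ⟶ J} {π₂ : J ⟶ R} {w₂ : i₂ ≫ π₂ = 0}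
    (hB : (ShortComplex.mk i₂ π₂ w₂).ShortExact) [Injective J]
    (hExt : IsZero ((HomSh.extSh (EtFppf.J X) (Ga X) 1).obj (Gm X)))
    (hPlane : ∀ (q : Γs Q (L1 (Red.Ga X))), ∃ s : Γs I (L1 (Red.Ga X)), m π₁ _ s = q) :
    Nonempty (Eval 𝓗) := by
  have hT₀ : IsAffine (Over.mk (𝟙 X)).left := inferInstanceAs (IsAffine X)
  have hm₂ : Mono i₂ := hB.mono_f
  -- the complexes of internal Homs
  have hm₃ : Mono (HomSh.homShMap (EtFppf.J X) (𝟙 (Ga X)) i₂) :=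
    inferInstanceAs (Mono ((HomSh.homShFunctor (EtFppf.J X) (Ga X)).map i₂))
  have hA' : (ShortComplex.mk (HomSh.homShMap (EtFppf.J X) (𝟙 (Ga X)) i₁) (HomSh.homShMap (EtFppf.J X) (𝟙 (Ga X)) π₁)
      ((ShortComplex.mk i₁ π₁ w₁).map (HomSh.homShFunctor (EtFppf.J X) (Ga X))).zero).ShortExact :=
    hom_shortExact (Ga X) hA hExt
  have hcd : HomSh.homShMap (EtFppf.J X) (𝟙 (Ga X)) i₂ ≫ HomSh.homShMap (EtFppf.J X) (𝟙 (Ga X)) π₂ = 0 :=
    ((ShortComplex.mk i₂ π₂ w₂).map (HomSh.homShFunctor (EtFppf.J X) (Ga X))).zero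
  have hex : (ShortComplex.mk (HomSh.homShMap (EtFppf.J X) (𝟙 (Ga X)) i₂)
      (HomSh.homShMap (EtFppf.J X) (𝟙 (Ga X)) π₂) hcd).Exact :=
    hB.exact.map_of_mono_of_preservesKernel (HomSh.homShFunctor (EtFppf.J X) (Ga X)) hm₂ inferInstance
  obtain ⟨C, π, κ, hw, hC, hκ, hκm, hmul⟩ := exists_coker _ _ hcd hm₃ hex
  let α : Γs C (Over.mk (𝟙 X)) →+ 𝓗.H (Gad X) 2 (Over.mk (𝟙 X)) := dd 𝓗 hA' hC _
  let D : ∀ W : Over X, Γs R W →+ 𝓗.H (Gm X) 2 W := fun W => dd 𝓗 hA hB W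
  refine ⟨{ Z := Γs C (Over.mk (𝟙 X))
            grp := inferInstance
            α := α
            sur := fun x => ?_
            E := fun W =>
              { toFun := fun z => (D W).comp (u κ W z)
                map_zero' := by rw [map_zero]; exact AddMonoidHom.comp_zero _
                map_add' := fun z z' => by rw [map_add]; exact AddMonoidHom.comp_add _ _ _ }
            nat := fun k z y => ?_
            iff := fun z => ⟨fun hz => ?_, fun hz => ?_⟩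
            kill := fun z V hV hz W h y => ?_
            mul := fun a z => ?_ }⟩
  · exact exists_dd 𝓗 hA' hC (hom_eq_zero (Ga X) J 𝓗 0 hT₀) x (hom_eq_zero (Ga X) I 𝓗 1 hT₀ _)
  · change 𝓗.res k (dd 𝓗 hA hB _ (u κ _ z y)) = dd 𝓗 hA hB _ (u κ _ z (r (Ga X) k y))
    rw [res_dd, r_u]
  · obtain ⟨j, hj⟩ := exists_of_dd 𝓗 hA' hC (hom_eq_zero (Ga X) I 𝓗 0 hT₀) z hz
    change dd 𝓗 hA hB _ (u κ _ z (un X)) = 0
    have h1 : u κ (Red.Ga X) z (un X) = m π₂ _ (ev j (tm _) (un X)) := by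
      rw [u_apply, ← hj, ← m_comp, hκ]
      rfl
    rw [h1, dd_m]
  · obtain ⟨a, ha⟩ := exists_of_dd 𝓗 hA hB (𝓗.inj I) _ hz
    obtain ⟨f, hf⟩ := exists_hom_of_sec (m κ (Over.mk (𝟙 X)) z)
    obtain ⟨ψ, hψ⟩ := K771.SymLift.exists_hom (Cartan.le_of_shortExact hA) (Cartan.le_of_shortExact hB) hPlane f a
      (ha.trans (hf _ _).symm)
    have h1 : z = m π _ (ofHom ψ (Over.mk (𝟙 X))) := by
      apply K731.Basic.injective_of_mono (K := 𝒦) κ (op (Over.mk (𝟙 X)))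
      change m κ _ z = m κ _ (m π _ (ofHom ψ (Over.mk (𝟙 X))))
      rw [← m_comp, hκ]
      refine ev_ext (F := Ga X) (G := R) (T := Over.mk (𝟙 X)) fun W h t => ?_
      change _ = m π₂ W (m ψ W t)
      rw [← m_comp, hψ, hf]
      congr 2
      exact Over.mkIdTerminal.hom_ext _ _
    change dd 𝓗 hA' hC _ z = 0
    rw [h1, dd_m]
  · have h1 : dd 𝓗 hA' hC V (r C (tm V) z) = 0 := (res_dd 𝓗 hA' hC (tm V) z).symm.trans hz
    obtain ⟨j, hj⟩ := exists_of_dd 𝓗 hA' hC (hom_eq_zero (Ga X) I 𝓗 0 hV) _ h1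
    change dd 𝓗 hA hB _ (u κ W z y) = 0
    have h2 : u κ W z y = m π₂ _ (ev j h y) := by
      rw [u_apply, ← comp_tm h, ← ev_r, ← m_r, ← hj, ← m_comp, hκ]
      rfl
    rw [h2, dd_m]
  · obtain ⟨l, hl', hl⟩ := hmul (lm Q a) (lm J a) (lm R a) (lm_comm i₂ a) (lm_comm π₂ a)
    refine ⟨m l _ z, map_dd 𝓗 hA' hC (lm_comm i₁ a) (lm_comm π₁ a) (lm_comm i₂ a) hl' z, fun W y => ?_⟩
    change dd 𝓗 hA hB _ (u κ W (m l _ z) y) = dd 𝓗 hA hB _ (u κ W z (m (mulGa a) W y))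
    congr 1
    rw [u_apply, ← m_comp, hl]
    rfl

end K674.EvTwo
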