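import Groth.Agent.GaDual.K771.FppfGa
import Groth.Agent.GaDual.K771.FrobSeq
import Groth.Agent.GaDual.K771.HExt
import Groth.Agent.GaDual.K772.DualExt
import Mathlib.FieldTheory.Relrank

/-!
# Non-zero classes in `H^2(R, dual of G_a)` in characteristic `p`

* `injective_cls`: `R` injects in `H^2(R, dual G_a)` if `H^1(R, dual G_a) = 0`, for `R` a domain of characteristic `p`
  with an element which is not a `p`-th power in the fraction field: the classes of the `α_p`-torsors `y ^ p = a`.
* `nsmul_eq_zero_gad`: `p` kills the dual of the additive group.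
-/

set_option autoImplicit false
universe v w u
open CategoryTheory CategoryTheory.Limits AlgebraicGeometry Opposite Abelian

noncomputable section

namespace K674.HTwoBase

open Groth.Agent.Etdl.H432.Sec Groth.Agent.Etdl.H494 K771.Pts K771.HomEv K771.Char

theorem add_pow_of_natCast {A : Type*} [CommRing A] {p : ℕ} [hp : Fact p.Prime] (h : (p : A) = 0) (x y : A) :
    (x + y) ^ p = x ^ p + y ^ p := by
  rcases subsingleton_or_nontrivial A with h1 | h1
  · exact Subsingleton.elim _ _
  · have : CharP A p := (CharP.charP_iff_prime_eq_zero hp.out).2 h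
    exact add_pow_char x y p

variable {X : Scheme.{u}}

/-- Morphisms of sheaves from natural families. -/
def homOf {F G : EtFppf.AbF X} (E : ∀ T : Over X, Γs F T →+ Γs G T)
    (hE : ∀ (T T' : Over X) (k : T' ⟶ T) (x : Γs F T), E T' (r F k x) = r G k (E T x)) : F ⟶ G :=
  ⟨{ app := fun W => AddCommGrpCat.ofHom (E W.unop)
     naturality := fun W W' k => by
      refine AddCommGrpCat.ext fun x => ?_
      exact hE W.unop W'.unop k.unop x }⟩

theorem m_homOf {F G : EtFppf.AbF X} (E : ∀ T : Over X, Γs F T →+ Γs G T)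
    (hE : ∀ (T T' : Over X) (k : T' ⟶ T) (x : Γs F T), E T' (r F k x) = r G k (E T x)) (T : Over X) (x : Γs F T) :
    m (homOf E hE) T x = E T x := rfl

/-- The Frobenius of the additive group, on sections. -/
def frobAdd {p : ℕ} [hp : Fact p.Prime] (h : (p : Γ(X, ⊤)) = 0) (W : Over X) : Γs (Ga X) W →+ Γs (Ga X) W where
  toFun s := gas (ga s ^ p)
  map_zero' := by
    rw [ga_zero, zero_pow hp.out.ne_zero, gas_zero]
  map_add' s t := by
    rw [ga_add, ← gas_add, add_pow_of_natCast (K771.FrobSeq.natCast_eq_zero h W)]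

theorem frobAdd_apply {p : ℕ} [hp : Fact p.Prime] (h : (p : Γ(X, ⊤)) = 0) (W : Over X) (s : Γs (Ga X) W) :
    frobAdd h W s = gas (ga s ^ p) := rfl

/-- The Frobenius of the additive group. -/
def frobGa {p : ℕ} [hp : Fact p.Prime] (h : (p : Γ(X, ⊤)) = 0) : Ga X ⟶ Ga X :=
  homOf (frobAdd h) (fun W W' k x => by
    rw [frobAdd_apply, frobAdd_apply, r_gas, ga_r, map_pow])

theorem ga_frobGa {p : ℕ} [hp : Fact p.Prime] (h : (p : Γ(X, ⊤)) = 0) (W : Over X) (y : Γs (Ga X) W) :
    ga (m (frobGa h) W y) = ga y ^ p := by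
  rw [frobGa, m_homOf, frobAdd_apply, ga_gas]

/-- `p` kills the cohomology of the dual of the additive group. -/
theorem nsmul_eq_zero_gad {p : ℕ} (h : (p : Γ(X, ⊤)) = 0) {T : Over X} (s : Γs (Gad X) T) : p • s = 0 := by
  refine ev_ext fun W h' x => ?_
  have h1 : ∀ n : ℕ, ev (n • s) h' x = n • ev s h' x := by
    intro n
    induction n with
    | zero => rw [zero_smul, zero_smul, ev_zero]
    | succ n ih => rw [succ_nsmul, succ_nsmul, ev_add, ih]
  rw [h1, ← map_nsmul, ev_zero]
  have h2 : p • x = 0 := by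
    have h3 : ∀ n : ℕ, ga (n • x) = n * ga x := by
      intro n
      induction n with
      | zero => rw [zero_smul, ga_zero, Nat.cast_zero, zero_mul]
      | succ n ih => rw [succ_nsmul, ga_add, ih, Nat.cast_succ, add_mul, one_mul]
    apply ga_injective
    rw [h3, K771.FrobSeq.natCast_eq_zero h W, zero_mul, ga_zero]
  rw [h2, map_zero]

section Inj

variable {p : ℕ} [hp : Fact p.Prime] (h : (p : Γ(X, ⊤)) = 0)

open K771.FrobSeq

/-- The class of a function in `H^2` of the dual of `G_a`. -/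
def cls (f : Γ(X, ⊤)) : EtFppf.HF X (Gad X) 2 :=
  ((((Sheaf.H.equiv₀ (Ga X) (T := Over.mk (𝟙 X)) Over.mkIdTerminal).symm
    (gas (U := Over.mk (𝟙 X)) f) : Sheaf.H (Ga X) 0).comp
    (shortExact_frob (p := p) (ga_frobGa h)).extClass (zero_add 1) :
      Sheaf.H (kernel (frobGa h)) 1).comp (shortExact_dual (p := p) h (ga_frobGa h)).extClass rfl : Sheaf.H (Gad X) 2)

theorem exists_pow_of_cls_eq (h1 : Subsingleton (EtFppf.HF X (Gad X) 1)) {f g : Γ(X, ⊤)} (hfg : cls h f = cls h g) :
    ∃ c : Γ(X, ⊤), f - g = c ^ p := by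
  let A : EtFppf.AbF X := (constantSheaf (EtFppf.J X) AddCommGrpCat.{u + 1}).obj (AddCommGrpCat.of (ULift ℤ))
  let z : ∀ f : Γ(X, ⊤), Ext A (Ga X) 0 := fun f => (Sheaf.H.equiv₀ (Ga X) (T := Over.mk (𝟙 X)) Over.mkIdTerminal).symm
    (gas (U := Over.mk (𝟙 X)) f)
  have hz : z f - z g = z (f - g) := by
    change (Sheaf.H.equiv₀ (Ga X) (T := Over.mk (𝟙 X)) Over.mkIdTerminal).symm _ -
      (Sheaf.H.equiv₀ (Ga X) (T := Over.mk (𝟙 X)) Over.mkIdTerminal).symm _ = _
    rw [← map_sub]
    congr 1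
    apply ga_injective
    rw [ga_sub, ga_gas, ga_gas, ga_gas]
  let e1 := shortExact_frob (p := p) (ga_frobGa h)
  let e2 := shortExact_dual (p := p) h (ga_frobGa h)
  have h2 : (((z f).comp e1.extClass (zero_add 1)).comp e2.extClass rfl : Ext A (Gad X) 2) =
    ((z g).comp e1.extClass (zero_add 1)).comp e2.extClass rfl := hfg
  have h3 : (((z f - z g).comp e1.extClass (zero_add 1)).comp e2.extClass rfl : Ext A (Gad X) 2) = 0 := by
    have h4 : ∀ (x y : Ext A (Ga X) 0), (x - y).comp e1.extClass (zero_add 1) =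
        x.comp e1.extClass (zero_add 1) - y.comp e1.extClass (zero_add 1) := fun x y =>
      map_sub (e1.extClass.postcomp A (zero_add 1)) x y
    have h5 : ∀ (x y : Ext A (seqDual h (ga_frobGa h)).X₃ 1), ((x - y).comp e2.extClass rfl : Ext A (Gad X) 2) =
        x.comp e2.extClass rfl - y.comp e2.extClass rfl := fun x y =>
      map_sub (e2.extClass.postcomp A (rfl : 1 + 1 = 2)) x y
    refine (congrArg (fun x : Ext A (seqDual h (ga_frobGa h)).X₃ 1 => (x.comp e2.extClass rfl : Ext A (Gad X) 2))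
      (h4 (z f) (z g))).trans ?_
    exact (h5 _ _).trans (sub_eq_zero.2 h2)
  obtain ⟨y, hy⟩ := Ext.covariant_sequence_exact₃ A e2 _ rfl h3
  have hy0 : y = 0 := by
    exact @Subsingleton.elim _ h1 _ _
  rw [hy0, Ext.zero_comp, hz] at hy
  obtain ⟨w, hw⟩ := Ext.covariant_sequence_exact₃ A e1 _ rfl hy.symm
  have hw' : Sheaf.H.map (frobGa h) 0 w = z (f - g) := hw
  have h6 := Sheaf.H.equiv₀_naturality (T := Over.mk (𝟙 X)) Over.mkIdTerminal (frobGa h) w
  rw [hw'] at h6
  let v : Γs (Ga X) (Over.mk (𝟙 X)) := Sheaf.H.equiv₀ (Ga X) (T := Over.mk (𝟙 X)) Over.mkIdTerminal w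
  have h7 : m (frobGa h) (Over.mk (𝟙 X)) v = gas (U := Over.mk (𝟙 X)) (f - g) := by
    refine h6.trans ?_
    exact AddEquiv.apply_symm_apply _ _
  refine ⟨ga v, ?_⟩
  rw [← ga_frobGa h, h7, ga_gas]

end Inj

section Ring

variable (p : ℕ) [hp : Fact p.Prime] (R : Type u) [CommRing R] [CharP R p]

/-- Functions on the spectrum. -/
abbrev rho : R ≃+* Γ(Spec (CommRingCat.of R), ⊤) :=
  (Scheme.ΓSpecIso (CommRingCat.of R)).symm.commRingCatIsoToRingEquiv

omit hp in
theorem natCast_gamma : (p : Γ(Spec (CommRingCat.of R), ⊤)) = 0 := by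
  have h1 := congrArg (rho R) (CharP.cast_eq_zero R p)
  rwa [map_natCast, map_zero] at h1

variable [IsDomain R]

/-- `R` injects in `H^2` of the dual of `G_a`. -/
theorem injective_cls (h1 : Subsingleton (EtFppf.HF (Spec (CommRingCat.of R)) (Gad (Spec (CommRingCat.of R))) 1))
    {x : R} (hx : ∀ c : FractionRing R, c ^ p ≠ algebraMap R _ x) :
    Function.Injective (fun a : R => cls (natCast_gamma p R) (rho R (a ^ p * x))) := by
  intro a b hab
  obtain ⟨c, hc⟩ := exists_pow_of_cls_eq (natCast_gamma p R) h1 hab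
  have h2 : rho R ((a - b) ^ p * x) = rho R ((rho R).symm c ^ p) := by
    rw [map_pow (rho R) ((rho R).symm c), RingEquiv.apply_symm_apply, ← hc, ← map_sub]
    congr 1
    rw [sub_pow_char, sub_mul]
  have h3 := (rho R).injective h2
  by_contra hne
  have h4 : (algebraMap R (FractionRing R) (a - b)) ≠ 0 := by
    rw [Ne, FaithfulSMul.algebraMap_eq_zero_iff]
    exact sub_ne_zero.2 hne
  refine hx (algebraMap R (FractionRing R) ((rho R).symm c) / algebraMap R (FractionRing R) (a - b)) ?_
  rw [div_pow, ← map_pow, ← h3, map_mul, map_pow]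
  field_simp

omit [CharP R p] in
theorem exists_not_pow (kp : Subfield (FractionRing R))
    (hkp : ∀ x : FractionRing R, x ∈ kp ↔ ∃ y : FractionRing R, y ^ p = x)
    (hdeg : Module.finrank kp (FractionRing R) = p) :
    ∃ x : R, ∀ c : FractionRing R, c ^ p ≠ algebraMap R _ x := by
  by_contra hcon
  push Not at hcon
  have h1 : kp = ⊤ := by
    rw [eq_top_iff]
    intro y _
    obtain ⟨a, b, hb, rfl⟩ := IsFractionRing.div_surjective (A := R) y
    have hb' : algebraMap R (FractionRing R) b ≠ 0 := by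
      rw [Ne, FaithfulSMul.algebraMap_eq_zero_iff]
      exact nonZeroDivisors.ne_zero hb
    obtain ⟨c, hc⟩ := hcon a
    obtain ⟨d, hd⟩ := hcon b
    exact (hkp _).2 ⟨c / d, by rw [div_pow, hc, hd]⟩
  have h2 : Module.finrank kp (FractionRing R) = 1 := by
    rw [h1]
    rw [← Subfield.relfinrank_top_right, Subfield.relfinrank_self]
  exact hp.out.one_lt.ne (h2.symm.trans hdeg)

theorem infinite_of_not_pow (x : R) (hx : ∀ c : FractionRing R, c ^ p ≠ algebraMap R _ x) : Infinite R := by
  by_contra h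
  rw [not_infinite_iff_finite] at h
  have h1 : Function.Surjective (frobenius R p) := Finite.surjective_of_injective (frobenius_inj R p)
  obtain ⟨y, hy⟩ := h1 x
  exact hx (algebraMap R _ y) (by rw [← map_pow, ← frobenius_def, hy])

end Ring

end K674.HTwoBase
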