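import Groth.Agent.GaDual.K674.PushF
import Groth.Agent.GaDual.K674.HTwoBase
import Groth.Prelude.Def_Frob

/-!
# The absolute Frobenius kills the cohomology of the dual of `G_a`

`c p F : F ⟶ F_X⁻¹ F` is given by the absolute Frobenius morphisms `τ p T : T^(F) ⟶ T`; `c p (Gad X) = 0`, hence
`res (τ p T) = 0` on `H^2(T, Gad X)`.
-/

set_option autoImplicit false
universe u
open CategoryTheory CategoryTheory.Limits AlgebraicGeometry Opposite

noncomputable section

namespace K674.FrobKill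

open Groth.Agent.Etdl.H432.Sec K771.Pts K771.RedExt K771.HomEv K771.Char K828



local notation "𝒦" => Scheme.fppfPrecoverage

variable {X : Scheme.{u}} (p : ℕ) [hp : Fact p.Prime] [FrobSch.IsCharP X p]

theorem charP_left (T : Over X) : FrobSch.IsCharP T.left p := FrobSch.IsCharP.of_hom T.hom p

/-- `T` with the structure morphism composed with the Frobenius of `X`. -/
abbrev tw (T : Over X) : Over X := (Over.map (FrobSch.frob X p)).obj T

/-- The absolute Frobenius of `T` as a morphism over `X`. -/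
def τ (T : Over X) : tw p T ⟶ T :=
  have := charP_left p T
  Over.homMk (FrobSch.frob T.left p) (FrobSch.frob_comp p T.hom)

theorem τ_nat {T T' : Over X} (k : T' ⟶ T) :
    (Over.map (FrobSch.frob X p)).map k ≫ τ p T = τ p T' ≫ k := by
  have := charP_left p T
  have := charP_left p T'
  ext1
  exact (FrobSch.frob_comp p k.left).symm

theorem ro_τ {T : Over X} (x : O T) : (ro (τ p T) x : O T) = x ^ p := by
  have := charP_left p T
  exact FrobSch.frob_appTop _ p x

/-- Restriction along the Frobenius. -/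
abbrev N : EtFppf.AbF X ⥤ EtFppf.AbF X := BigSite.pullBig 𝒦 (FrobSch.frob X p) AddCommGrpCat.{u + 1}

/-- The comparison. -/
def c (F : EtFppf.AbF X) : F ⟶ (N p).obj F :=
  ⟨{ app := fun T => F.obj.map (τ p T.unop).op
     naturality := fun T T' k => by
      change F.obj.map k ≫ F.obj.map (τ p T'.unop).op =
        F.obj.map (τ p T.unop).op ≫ F.obj.map ((Over.map (FrobSch.frob X p)).map k.unop).op
      rw [← F.obj.map_comp, ← F.obj.map_comp, ← op_comp, τ_nat]
      rfl }⟩

theorem m_c {F : EtFppf.AbF X} {T : Over X} (s : Γs F T) : m (c p F) T s = r F (τ p T) s := rfl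

theorem c_nat {F G : EtFppf.AbF X} (φ : F ⟶ G) : φ ≫ c p G = c p F ≫ (N p).map φ := by
  refine hom_ext_m fun T s => ?_
  exact (m_r φ (τ p T) s).symm

theorem natCast_gamma : (p : Γ(X, ⊤)) = 0 := FrobSch.IsCharP.natCast_eq_zero

open Polynomial in
theorem c_Gad : c p (Gad X) = 0 := by
  refine K771.AffHom.hom_ext_affine fun T hT s => ?_
  have hT' : IsAffine (tw p T).left := hT
  have h0 : (p : O T) = 0 := K771.FrobSeq.natCast_eq_zero (natCast_gamma p) T
  change r (Gad X) (τ p T) s = 0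
  apply poly_injective
  rw [poly_r, poly_zero]
  have h1 : ∀ n : ℕ, poly (n • s) = poly s ^ n := by
    intro n
    induction n with
    | zero => rw [zero_smul, pow_zero, poly_zero]
    | succ n ih => rw [succ_nsmul, poly_add, ih, pow_succ]
  have h2 : poly s ^ p = 1 := by
    rw [← h1, K674.HTwoBase.nsmul_eq_zero_gad (natCast_gamma p), poly_zero]
  rcases subsingleton_or_nontrivial (O T) with hA | hA
  · have : Subsingleton (O (tw p T)) := hA
    exact Subsingleton.elim _ _
  have hc : CharP (O T) p := K771.FrobAlg.charP_of_eq_zero p h0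
  have h3 : ro (τ p T) = (frobenius (O T) p : O T →+* O (tw p T)) := by
    ext x
    exact ro_τ p x
  rw [h3]
  have h4 : expand (O T) p ((poly s).map (frobenius (O T) p)) = 1 := by
    rw [← map_expand, map_frobenius_expand, h2]
  apply expand_injective hp.out.pos
  exact h4.trans (map_one _).symm

theorem res_eq_zero {G : EtFppf.AbF X} (hc : c p G = 0) (𝓗 : CohT 𝒦 X) {T : Over X} (x : 𝓗.H G 2 T) :
    𝓗.res (τ p T) x = 0 := by
  have hA := K771.PicExt.injSeq_shortExact G
  have hB := K771.PicExt.injSeq_shortExact (K771.PicExt.injSeq G).X₃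
  let I := (K771.PicExt.injSeq G).X₂
  let Q := (K771.PicExt.injSeq G).X₃
  let J := (K771.PicExt.injSeq Q).X₂
  let R := (K771.PicExt.injSeq Q).X₃
  let i₁ : G ⟶ I := (K771.PicExt.injSeq G).f
  let π₁ : I ⟶ Q := (K771.PicExt.injSeq G).g
  let i₂ : Q ⟶ J := (K771.PicExt.injSeq Q).f
  let π₂ : J ⟶ R := (K771.PicExt.injSeq Q).g
  have hI : Injective I := inferInstanceAs (Injective (K771.PicExt.injSeq G).X₂)
  have hJ : Injective J := inferInstanceAs (Injective (K771.PicExt.injSeq Q).X₂)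
  have hNI : Injective ((N p).obj I) := K828.Inj.injective_pullBig (FrobSch.frob X p) 𝒦 I
  have hm : Mono i₂ := hB.mono_f
  have he₁ : Epi π₁ := hA.epi_g
  have he₁' : Epi (K771.PicExt.injSeq G).g := hA.epi_g
  have he₂ : Epi π₂ := hB.epi_g
  have he₂' : Epi (K771.PicExt.injSeq Q).g := hB.epi_g
  have h1 : i₁ ≫ c p I = 0 := by rw [c_nat, hc, Limits.zero_comp]
  let θ : Q ⟶ (N p).obj I := hA.exact.desc (c p I) h1
  have hθ : π₁ ≫ θ = c p I := hA.exact.g_desc _ h1
  have hθ₂ : θ ≫ (N p).map π₁ = c p Q := by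
    rw [← cancel_epi π₁, ← Category.assoc, hθ, c_nat]
  let θ' : J ⟶ (N p).obj I := Injective.factorThru θ i₂
  have hθ' : i₂ ≫ θ' = θ := Injective.comp_factorThru _ _
  let d : J ⟶ (N p).obj J := c p J - θ' ≫ (N p).map π₁ ≫ (N p).map i₂
  have hd : i₂ ≫ d = 0 := by
    change i₂ ≫ (c p J - θ' ≫ (N p).map π₁ ≫ (N p).map i₂) = 0
    rw [Preadditive.comp_sub, c_nat, ← Category.assoc, hθ', ← Category.assoc, hθ₂, sub_self]
  let θ'' : R ⟶ (N p).obj J := hB.exact.desc d hd
  have hθ'' : π₂ ≫ θ'' = d := hB.exact.g_desc _ hd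
  have h2 : θ'' ≫ (N p).map π₂ = c p R := by
    rw [← cancel_epi π₂, ← Category.assoc, hθ'']
    change (c p J - θ' ≫ (N p).map π₁ ≫ (N p).map i₂) ≫ (N p).map π₂ = _
    have h3 : (N p).map i₂ ≫ (N p).map π₂ = 0 := by
      rw [← Functor.map_comp]
      have : i₂ ≫ π₂ = 0 := (K771.PicExt.injSeq Q).zero
      rw [this, Functor.map_zero]
    rw [Preadditive.sub_comp, Category.assoc, Category.assoc, h3, comp_zero, comp_zero, sub_zero, c_nat]
  obtain ⟨y, rfl⟩ := 𝓗.exact₁ hA x (𝓗.inj I _)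
  obtain ⟨z, rfl⟩ := 𝓗.exact₁ hB y (𝓗.inj J _)
  let j : Γs J (tw p T) := m θ'' T (𝓗.sec z)
  have h4 : 𝓗.res (τ p T) z = 𝓗.map π₂ (𝓗.sec.symm j) := by
    apply 𝓗.sec.injective
    have h5 : r R (τ p T) (𝓗.sec z) = m π₂ (tw p T) j := congrArg (fun φ => m φ T (𝓗.sec z)) h2.symm
    rw [𝓗.sec_res, 𝓗.sec_map, AddEquiv.apply_symm_apply]
    exact h5
  have h6 : 𝓗.res (τ p T) (𝓗.del hB z) = 0 := by
    rw [← 𝓗.del_res, h4]
    exact 𝓗.del_map hB _
  exact (𝓗.del_res hA _ _).symm.trans ((congrArg (𝓗.del hA) h6).trans (map_zero _))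

/-- The absolute Frobenius kills `H^2` of the dual of `G_a`. -/
theorem res_gad (𝓗 : CohT 𝒦 X) {T : Over X} (x : 𝓗.H (Gad X) 2 T) : 𝓗.res (τ p T) x = 0 :=
  res_eq_zero p (c_Gad p) 𝓗 x

end K674.FrobKill
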