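import Groth.Agent.GaDual.K771.FppfGa
import Groth.Agent.TateGlob.K828.BigCoh

/-!
# `H^n(T, G_a) = 0` for affine objects `T` of the big fppf site, `n > 0`
-/

set_option autoImplicit false
universe u
open CategoryTheory CategoryTheory.Limits AlgebraicGeometry Opposite

noncomputable section

namespace K674.GaHU

open Groth.Agent.Etdl.H432.Sec K771.Pts K828

local notation "𝒦" => Scheme.fppfPrecoverage

variable {X : Scheme.{u}}

/-- The restriction of `G_a` to a slice. -/
def pullIso {Y : Scheme.{u}} (f : Y ⟶ X) :
    (BigSite.pullBig 𝒦 f AddCommGrpCat.{u + 1}).obj (Ga X) ≅ Ga Y :=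
  (fullyFaithfulSheafToPresheaf _ _).preimageIso (NatIso.ofComponents
    (fun U => AddEquiv.toAddCommGrpIso
      { toFun := fun s => gas (U := U.unop) (ga (U := (Over.map f).obj U.unop) s)
        invFun := fun s => gas (U := (Over.map f).obj U.unop) (ga (U := U.unop) s)
        left_inv := fun s => by
          apply ga_injective
          rw [ga_gas, ga_gas]
        right_inv := fun s => by
          apply ga_injective
          rw [ga_gas, ga_gas]
        map_add' := fun s t => by
          rw [← gas_add]
          exact congrArg gas (ga_add (U := (Over.map f).obj U.unop) s t) })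
    (fun {U V} k => by
      ext s
      apply ga_injective
      change ga (gas _) = ga (r (Ga Y) k.unop (gas _))
      rw [ga_r, ga_gas, ga_gas]
      exact ga_r ((Over.map f).map k.unop) s))

theorem subsingleton_HU (T : Over X) [IsAffine T.left] (n : ℕ) (hn : 0 < n) :
    Subsingleton (BigSite.HU 𝒦 (Ga X) n T) := by
  have h1 : Subsingleton (EtFppf.HF T.left (Ga T.left) n) := K771.FppfGa.subsingleton T.left n hn
  exact K771.HExt.sub_of_iso_right (pullIso T.hom).symm n

theorem eq_zero (T : Over X) [IsAffine T.left] (x : (BigCoh.bigCoh 𝒦 X).H (Ga X) 1 T) : x = 0 :=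
  @Subsingleton.elim _ (subsingleton_HU T 1 one_pos) _ _

end K674.GaHU
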