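import Groth.Agent.GaDual.K674.SmH
import Groth.Agent.Sga3B.GaPts
import Groth.Prelude.Def_CGrpSh2

/-!
# Countability of the cohomology of affine group schemes and their duals
-/

set_option autoImplicit false
universe w u

open CategoryTheory Category Limits Opposite AlgebraicGeometry MonoidalCategory CartesianMonoidalCategory

noncomputable section

namespace K674.SmFppf

open K674.Small K674.SmSh

theorem gmFn_injective {S : Scheme.{u}} {T : Over S} : Function.Injective (Red.gmFn : (T ⟶ Red.Gm S) → _) := by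
  open Groth.Agent.Sga3B.DSPts Groth.Agent.Sga3B.GaPts in
  intro x y h
  rw [gmFn_eq, gmFn_eq] at h
  have h1 : dsChar x = dsChar y := MonoidHom.ext_mint h
  rw [← dsEquiv_dsChar x, h1, dsEquiv_dsChar]

variable {K : Type w} [Infinite K] {S : Scheme.{u}} [IsAffine S] [Sm K Γ(S, ⊤)]

theorem sms_pts (G : Over S) [GrpObj G] [IsCommMonObj G] (hG : BB G) :
    Sms K (BB (S := S)) (CGrpSh.pts Scheme.fppfPrecoverage G).obj := by
  intro U hU
  have := sm_hom_BB (K := K) (sm_sections hU) hG
  exact Sm.of_injective (f := fun x : ULift.{u + 1} (Additive (U ⟶ G)) => x.down.toMul)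
    (Additive.toMul.injective.comp ULift.down_injective)

theorem sms_gm : Sms K (BB (S := S)) (CGrpSh2.Gm Scheme.fppfPrecoverage S).obj := by
  intro U hU
  have := sm_sections (K := K) hU
  have h1 : Sm K (U ⟶ Red.Gm S) := Sm.of_injective gmFn_injective
  exact Sm.of_injective (f := fun x : ULift.{u + 1} (Additive (U ⟶ Red.Gm S)) => x.down.toMul)
    (Additive.toMul.injective.comp ULift.down_injective)

omit [Sm K Γ(S, ⊤)] in
theorem BB.tensor {G X : Over S} (hG : BB G) (hX : BB X) : BB (G ⊗ X) := by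
  have := hG.1
  have := hG.2
  have := hX.1
  have := hX.2
  refine ⟨inferInstanceAs (IsAffine (pullback G.hom X.hom)), ?_⟩
  exact inferInstanceAs (LocallyOfFiniteType (pullback.fst G.hom X.hom ≫ G.hom))

omit [IsAffine S] [Sm K Γ(S, ⊤)] in
/-- A morphism on the restriction of the sheaf of points to `X` is determined by its value on the universal point. -/
theorem hom_ext_pts {G : Over S} [GrpObj G] [IsCommMonObj G] {X : Over S} {M : BigSite.Ab Scheme.fppfPrecoverage S}
    (φ ψ : (CGrpSh.pts Scheme.fppfPrecoverage G).over X ⟶ M.over X)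
    (h : φ.hom.app (op (Over.mk (snd G X))) (ULift.up (Additive.ofMul (fst G X))) =
      ψ.hom.app (op (Over.mk (snd G X))) (ULift.up (Additive.ofMul (fst G X)))) : φ = ψ := by
  refine Sheaf.hom_ext (NatTrans.ext (funext fun U => AddCommGrpCat.ext fun s => ?_))
  let s' : (unop U).left ⟶ G := Additive.toMul (ULift.down s)
  let l : unop U ⟶ Over.mk (snd G X) := Over.homMk (lift s' (unop U).hom) (lift_snd _ _)
  have hs : s = ((CGrpSh.pts Scheme.fppfPrecoverage G).over X).obj.map l.op (ULift.up (Additive.ofMul (fst G X))) := by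
    apply ULift.ext
    change Additive.ofMul s' = Additive.ofMul (lift s' (unop U).hom ≫ fst G X)
    rw [lift_fst]
  have h1 := ConcreteCategory.congr_hom (φ.hom.naturality l.op) (ULift.up (Additive.ofMul (fst G X)))
  have h2 := ConcreteCategory.congr_hom (ψ.hom.naturality l.op) (ULift.up (Additive.ofMul (fst G X)))
  rw [hs]
  refine h1.trans (Eq.trans ?_ h2.symm)
  exact congrArg ((M.over X).obj.map l.op) h

theorem sms_dual (G : Over S) [GrpObj G] [IsCommMonObj G] (hG : BB G) :
    Sms K (BB (S := S)) (CGrpSh2.dualSh Scheme.fppfPrecoverage (CGrpSh.pts Scheme.fppfPrecoverage G)).obj := by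
  intro X hX
  have h1 := sms_gm (K := K) (G ⊗ X) (hG.tensor hX)
  exact Sm.of_injective (Y := (CGrpSh2.Gm Scheme.fppfPrecoverage S).obj.obj (op (G ⊗ X)))
    (f := fun φ : (CGrpSh.pts Scheme.fppfPrecoverage G).over X ⟶ (CGrpSh2.Gm Scheme.fppfPrecoverage S).over X =>
      φ.hom.app (op (Over.mk (snd G X))) (ULift.up (Additive.ofMul (fst G X)))) fun φ ψ h => hom_ext_pts φ ψ h

variable [IsNoetherianRing Γ(S, ⊤)]

theorem sm_H_pts (G : Over S) [GrpObj G] [IsCommMonObj G] [IsAffine G.left] [LocallyOfFiniteType G.hom] (n : ℕ) :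
    Sm K (BigSite.H Scheme.fppfPrecoverage S (CGrpSh.pts Scheme.fppfPrecoverage G) n) :=
  sm_H _ (sms_pts G ⟨inferInstance, inferInstance⟩) n

theorem sm_H_dual (G : Over S) [GrpObj G] [IsCommMonObj G] [IsAffine G.left] [LocallyOfFiniteType G.hom] (n : ℕ) :
    Sm K (BigSite.H Scheme.fppfPrecoverage S
      (CGrpSh2.dualSh Scheme.fppfPrecoverage (CGrpSh.pts Scheme.fppfPrecoverage G)) n) :=
  sm_H _ (sms_dual G ⟨inferInstance, inferInstance⟩) n

end K674.SmFppf
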