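import Groth.Agent.GaDual.K771.PicUfd

/-!
# The affine line over a factorial ring on the big site; `Ext^1(G_a, G_m) = 0` over a factorial ring
-/

set_option autoImplicit false
universe u
open CategoryTheory CategoryTheory.Limits AlgebraicGeometry Opposite TopologicalSpace

noncomputable section

namespace K674.UfdLine

open K771 Groth.Agent.Etdl.H432.Sec K771.Pts K771.RedExt K771.Aff K771.PicUfd

variable (k : Type u) [CommRing k] [IsDomain k] [UniqueFactorizationMonoid k]

/-- Functions on the affine line. -/
def gammaEquiv : Polynomial k ≃+* O (Red.Ga (Spec (CommRingCat.of k))) :=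
  let X := Spec (CommRingCat.of k)
  (Polynomial.mapEquiv (Scheme.ΓSpecIso (CommRingCat.of k)).symm.commRingCatIsoToRingEquiv).trans
    ((e (T := Over.mk (𝟙 X)) (Polynomial.C : O (Over.mk (𝟙 X) : Over X) →+* Polynomial (O (Over.mk (𝟙 X) : Over X)))).trans
      (Scheme.Γ.mapIso ((Over.forget X).mapIso (gaIso X)).op).commRingCatIsoToRingEquiv)

instance isAffine_line : IsAffine (Red.Ga (Spec (CommRingCat.of k))).left :=
  let X := Spec (CommRingCat.of k)
  have : IsAffine ((Over.forget X).obj (aff (T := Over.mk (𝟙 X))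
      (Polynomial.C : O (Over.mk (𝟙 X) : Over X) →+* Polynomial (O (Over.mk (𝟙 X) : Over X))))) :=
    inferInstanceAs (IsAffine (aff (T := Over.mk (𝟙 X))
      (Polynomial.C : O (Over.mk (𝟙 X) : Over X) →+* Polynomial (O (Over.mk (𝟙 X) : Over X)))).left)
  .of_isIso ((Over.forget _).mapIso (gaIso X)).hom

instance isDomain_line : IsDomain Γ((Red.Ga (Spec (CommRingCat.of k))).left, ⊤) :=
  (gammaEquiv k).symm.toMulEquiv.isDomain _

instance ufd_line : UniqueFactorizationMonoid Γ((Red.Ga (Spec (CommRingCat.of k))).left, ⊤) :=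
  (gammaEquiv k).toMulEquiv.uniqueFactorizationMonoid inferInstance

instance nonempty_line : Nonempty (Red.Ga (Spec (CommRingCat.of k))).left := by
  by_contra h
  rw [not_nonempty_iff] at h
  have : Subsingleton Γ((Red.Ga (Spec (CommRingCat.of k))).left, ⊤) := inferInstance
  exact not_subsingleton _ this

theorem pic_line (L : (Red.Ga (Spec (CommRingCat.of k))).left.Modules) (hL : PicF.IsInvertible L) :
    Nonempty (L ≅ Coh.structureModule (Red.Ga (Spec (CommRingCat.of k))).left) := pic_trivial _ L hL

instance ext_one_ufd : Subsingleton (Abelian.Ext (Ga (Spec (CommRingCat.of k))) (Gm (Spec (CommRingCat.of k))) 1) :=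
  PicExt.ext_one (pic_line k)

end K674.UfdLine
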