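import Groth.Agent.GaDual.K674.RankOne
import Groth.Agent.GaDual.K674.GaHU
import Groth.Agent.GaDual.K674.HTwoBase
import Groth.Agent.GaDual.K674.UfdLine
import Groth.Agent.GaDual.K770.DvrP

/-!
# `H^2(R, dual of G_a) ≃ R` for fields and discrete valuation rings with `[k : k^p] = p`

The class group `H^2(R, dual G_a)` is identified, linearly for the action of `R` on `G_a`, with a non-zero ideal of `R`
(through the evaluation `H^2(R, dual G_a) ⟶ H^2(A^1, G_m)`, whose image consists of classes `dl (c x)`), hence with `R`.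
-/

set_option autoImplicit false
universe u v w
open CategoryTheory CategoryTheory.Limits AlgebraicGeometry Opposite

noncomputable section

namespace K674.HTwoMain

open K674.PBasis

section algebra

/-- A group with an action of a principal ideal domain which maps isomorphically and linearly onto a non-zero ideal. -/
theorem exists_of_beta {Z : Type v} {M : Type w} {A : Type u} [AddCommGroup Z] [AddCommGroup M] [CommRing A]
    [IsDomain A] [IsPrincipalIdealRing A] [Nontrivial M] (α : Z →+ M) (hα : Function.Surjective α) (β : Z →+ A)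
    (act : A → M → M) (hβ : ∀ z, β z = 0 ↔ α z = 0)
    (hmul : ∀ a z, ∃ z', α z' = act a (α z) ∧ β z' = a * β z) : ∃ e : M ≃+ A, ∀ a x, e (act a x) = a * e x := by
  let I : Ideal A :=
    { carrier := Set.range β
      zero_mem' := ⟨0, map_zero β⟩
      add_mem' := by
        rintro _ _ ⟨z, rfl⟩ ⟨z', rfl⟩
        exact ⟨z + z', map_add β z z'⟩
      smul_mem' := by
        rintro a _ ⟨z, rfl⟩
        obtain ⟨z', -, hz'⟩ := hmul a z
        exact ⟨z', hz'⟩ }
  obtain ⟨g, hg⟩ := (IsPrincipalIdealRing.principal I).principal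
  have hg' : I = Ideal.span {g} := hg
  have hgI : g ∈ I := by rw [hg']; exact Ideal.mem_span_singleton_self g
  obtain ⟨z₀, hz₀⟩ := hgI
  have hinj : ∀ z z', β z = β z' → α z = α z' := by
    intro z z' h
    rw [← sub_eq_zero, ← map_sub] at h ⊢
    exact (hβ _).1 h
  have hdiv : ∀ z, ∃ a, β z = a * g := by
    intro z
    have h1 : β z ∈ I := ⟨z, rfl⟩
    rw [hg', Ideal.mem_span_singleton'] at h1
    obtain ⟨a, ha⟩ := h1
    exact ⟨a, ha.symm⟩
  have hg0 : g ≠ 0 := by
    rintro rfl
    obtain ⟨m, hm⟩ := exists_ne (0 : M)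
    obtain ⟨z, rfl⟩ := hα m
    obtain ⟨a, ha⟩ := hdiv z
    rw [mul_zero] at ha
    exact hm ((hβ z).1 ha)
  choose ζ hζ' hζ using fun a => hmul a z₀
  simp only [hz₀] at hζ
  let δ : A →+ M := AddMonoidHom.mk' (fun a => α (ζ a)) (fun a b => by
    rw [← map_add]
    apply hinj
    rw [map_add, hζ, hζ, hζ, add_mul])
  have hδ : Function.Bijective δ := by
    constructor
    · rw [injective_iff_map_eq_zero]
      intro a ha
      have h1 : β (ζ a) = 0 := (hβ _).2 ha
      rw [hζ] at h1
      exact (mul_eq_zero.1 h1).resolve_right hg0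
    · intro m
      obtain ⟨z, rfl⟩ := hα m
      obtain ⟨a, ha⟩ := hdiv z
      exact ⟨a, hinj _ _ (by rw [hζ, ha])⟩
  refine ⟨(AddEquiv.ofBijective δ hδ).symm, fun a x => ?_⟩
  obtain ⟨b, rfl⟩ := hδ.2 x
  have h1 : (AddEquiv.ofBijective δ hδ).symm (δ b) = b := (AddEquiv.ofBijective δ hδ).symm_apply_apply b
  rw [h1, AddEquiv.symm_apply_eq]
  obtain ⟨z', hz', hz''⟩ := hmul a (ζ b)
  change act a (α (ζ b)) = α (ζ (a * b))
  rw [← hz']
  exact hinj _ _ (by rw [hz'', hζ, hζ, mul_assoc])

variable {p : ℕ} [hp : Fact p.Prime] {R : Type u} [CommRing R] [CharP R p]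

theorem pb_of_unique {x : R} (h : ∀ r : R, ∃! c : Fin p → R, r = ∑ j : Fin p, x ^ (j : ℕ) * c j ^ p) :
    PB p (frobenius R p) x x where
  prime := hp.out
  zero := CharP.cast_eq_zero R p
  pow := rfl
  ex y := by
    obtain ⟨c, hc, -⟩ := h y
    exact ⟨c, hc.trans (Finset.sum_congr rfl fun j _ => mul_comm _ _)⟩
  inj c hc := by
    refine (h 0).unique ?_ ?_
    · rw [← hc]
      exact Finset.sum_congr rfl fun j _ => mul_comm _ _
    · simp [hp.out.ne_zero]

theorem pb_transport {A : Type u} [CommRing A] (e : R ≃+* A) {i : A →+* A} (hi : ∀ a, i a = a ^ p) {x : R}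
    (h : PB p (frobenius R p) x x) : PB p i (e x) (e x) where
  prime := hp.out
  zero := by rw [← map_natCast e, h.zero, map_zero]
  pow := (hi _).symm
  ex y := by
    obtain ⟨c, hc⟩ := h.ex (e.symm y)
    refine ⟨fun j => e (c j), ?_⟩
    rw [← e.apply_symm_apply y, hc, map_sum]
    refine Finset.sum_congr rfl fun j _ => ?_
    rw [map_mul, map_pow, hi, frobenius_def, map_pow]
  inj c hc := by
    have h1 := h.inj (fun j => e.symm (c j)) (by
      apply e.injective
      rw [map_sum, map_zero, ← hc]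
      refine Finset.sum_congr rfl fun j _ => ?_
      rw [map_mul, map_pow, hi, frobenius_def, map_pow, e.apply_symm_apply])
    funext j
    have h2 := congrFun h1 j
    exact (e.symm_apply_eq.1 h2).trans (map_zero e)

theorem exists_pb_field [IsDomain R] (hs : Function.Surjective (algebraMap R (FractionRing R)))
    (kp : Subfield (FractionRing R)) (hkp : ∀ x : FractionRing R, x ∈ kp ↔ ∃ y : FractionRing R, y ^ p = x)
    (hdeg : Module.finrank kp (FractionRing R) = p) : ∃ x : R, PB p (frobenius R p) x x := by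
  obtain ⟨x, hx⟩ := K674.HTwoBase.exists_not_pow p R kp hkp hdeg
  have hc : CharP (FractionRing R) p :=
    charP_of_injective_algebraMap (IsFractionRing.injective R (FractionRing R)) p
  have hk : kp = (frobenius (FractionRing R) p).fieldRange := by
    ext x
    rw [hkp, RingHom.mem_fieldRange]
    rfl
  subst hk
  have hx' : ¬ ∃ y, y ^ p = algebraMap R (FractionRing R) x := fun ⟨y, hy⟩ => hx y hy
  have hinj := IsFractionRing.injective R (FractionRing R)
  refine ⟨x, pb_of_unique fun r => ?_⟩
  obtain ⟨y, hy⟩ := K770.DvrP.exists_coeff p hx' hdeg (algebraMap R _ r)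
  choose c hc using fun j => hs (y j)
  refine ⟨c, hinj ?_, fun c' hc' => ?_⟩
  · rw [hy, map_sum]
    refine Finset.sum_congr rfl fun j _ => ?_
    rw [map_mul, map_pow, map_pow, hc]
  · have h1 := K770.DvrP.coeff_unique p hx' (y := fun j => algebraMap R _ (c' j)) (y' := y) (by
      rw [← hy, hc', map_sum]
      exact Finset.sum_congr rfl fun j _ => by rw [map_mul, map_pow, map_pow])
    funext j
    apply hinj
    rw [hc]
    exact congrFun h1 j

theorem pb_of_dvr [IsDomain R] [IsDiscreteValuationRing R] (kp : Subfield (FractionRing R))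
    (hkp : ∀ x : FractionRing R, x ∈ kp ↔ ∃ y : FractionRing R, y ^ p = x)
    (hdeg : Module.finrank kp (FractionRing R) = p) {π : R} (hπ : Irreducible π) : PB p (frobenius R p) π π := by
  have hc : CharP (FractionRing R) p :=
    charP_of_injective_algebraMap (IsFractionRing.injective R (FractionRing R)) p
  have hk : kp = (frobenius (FractionRing R) p).fieldRange := by
    ext x
    rw [hkp, RingHom.mem_fieldRange]
    rfl
  subst hk
  exact pb_of_unique (K770.DvrP.exists_unique_coeff p hπ hdeg)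

end algebra

open Groth.Agent.Etdl.H432.Sec K771.Pts K771.Char K828

variable (p : ℕ) [hp : Fact p.Prime] (R : Type u) [CommRing R] [CharP R p] [IsDomain R]

/-- The class group `H^2(R, dual G_a)` is free of rank one over `R`, for the action of `R` induced by its action on `G_a`
(`K674.EvTwo.mulGad a` is precomposition with multiplication by `a`). -/
theorem main_linear [IsPrincipalIdealRing R] {x : R} (hx : PB p (frobenius R p) x x) {s : R}
    (hs : ∀ c : FractionRing R, c ^ p ≠ algebraMap R _ s) :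
    ∃ e : BigSite.H Scheme.fppfPrecoverage (Spec (CommRingCat.of R)) (Gad (Spec (CommRingCat.of R))) 2 ≃+ R,
      ∀ (a : R) (y : BigSite.H Scheme.fppfPrecoverage (Spec (CommRingCat.of R)) (Gad (Spec (CommRingCat.of R))) 2),
        e (Sheaf.H.map (K674.EvTwo.mulGad (K674.HTwoBase.rho R a)) 2 y) = a * e y := by
  let X := Spec (CommRingCat.of R)
  let 𝓗 := BigCoh.bigCoh Scheme.fppfPrecoverage X
  let ρ : R ≃+* Γ(X, ⊤) := K674.HTwoBase.rho R
  have hpX : FrobSch.IsCharP X p := FrobSch.isCharP_Spec R p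
  have hd : IsDomain Γ(X, ⊤) := ρ.symm.toMulEquiv.isDomain _
  have hu : UniqueFactorizationMonoid Γ(X, ⊤) := ρ.toMulEquiv.uniqueFactorizationMonoid inferInstance
  have hP : IsPrincipalIdealRing Γ(X, ⊤) := IsPrincipalIdealRing.of_surjective (ρ : R →+* Γ(X, ⊤)) ρ.surjective
  have hinf : Infinite R := K674.HTwoBase.infinite_of_not_pow p R s hs
  have hinf' : Infinite Γ(X, ⊤) := Infinite.of_injective ρ ρ.injective
  have h₀ : K674.LogPB.PBX p (ρ x) := pb_transport ρ (fun a => FrobSch.frob_appTop X p a) hx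
  have hline : IsAffine (Red.Ga X).left := K771.DvrLine.isAffine_line R
  have hExt := Groth.Agent.S13478.result X p FrobSch.IsCharP.natCast_eq_zero
  obtain ⟨V⟩ := K674.EvTwo.exists_eval 𝓗 (K771.PicExt.injSeq_shortExact (Gm X))
    (K771.PicExt.injSeq_shortExact (K771.PicExt.injSeq (Gm X)).X₃) hExt
    (K771.DvrLine.exists_lift_plane R (K771.PicExt.injSeq_shortExact (Gm X)))
  obtain ⟨β, hβ, hmul⟩ := K674.RankOne.exists_beta p h₀ 𝓗 V (fun T hT y => K674.GaHU.eq_zero T y)
  have h1 : Subsingleton (EtFppf.HF X (Gad X) 1) := by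
    have := K674.UfdLine.ext_one_ufd R
    exact K772.DualExt.subsingleton_H_one _ _ Over.mkIdTerminal
  have h2 := K674.HTwoBase.injective_cls p R h1 hs
  have h3 : Nontrivial (BigSite.H Scheme.fppfPrecoverage X (Gad X) 2) := ⟨_, _, h2.ne (zero_ne_one (α := R))⟩
  have h4 : Nontrivial (𝓗.H (Gad X) 2 (Over.mk (𝟙 X))) := (K827.Abs.absE (Gad X) 2).symm.toEquiv.nontrivial
  obtain ⟨e, he⟩ := exists_of_beta V.α V.sur β (fun a => 𝓗.map (K674.EvTwo.mulGad a)) hβ hmul
  refine ⟨((K827.Abs.absE (Gad X) 2).trans e).trans ρ.symm.toAddEquiv, fun a y => ?_⟩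
  have h5 : K827.Abs.absE (Gad X) 2 (Sheaf.H.map (K674.EvTwo.mulGad (ρ a)) 2 y) =
      𝓗.map (K674.EvTwo.mulGad (ρ a)) (K827.Abs.absE (Gad X) 2 y) :=
    (K827.Abs.res_map (K674.EvTwo.mulGad (ρ a)) 2 _ y).symm
  change ρ.symm (e (K827.Abs.absE (Gad X) 2 (Sheaf.H.map (K674.EvTwo.mulGad (ρ a)) 2 y))) =
    a * ρ.symm (e (K827.Abs.absE (Gad X) 2 y))
  rw [h5, he, map_mul, RingEquiv.symm_apply_apply]

/-- The published statement: for `R` a field or a Henselian discrete valuation ring with `[k : k^p] = p`, the group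
`H^2(R, dual G_a)` is free of rank one over `R` for the action induced by the action of `R` on `G_a`. -/
theorem linear (hR : IsField R ∨ (IsDiscreteValuationRing R ∧ HenselianLocalRing R))
    (kp : Subfield (FractionRing R)) (hkp : ∀ x : FractionRing R, x ∈ kp ↔ ∃ y : FractionRing R, y ^ p = x)
    (hdeg : Module.finrank kp (FractionRing R) = p) :
    ∃ e : BigSite.H Scheme.fppfPrecoverage (Spec (CommRingCat.of R)) (Gad (Spec (CommRingCat.of R))) 2 ≃+ R,
      ∀ (a : R) (y : BigSite.H Scheme.fppfPrecoverage (Spec (CommRingCat.of R)) (Gad (Spec (CommRingCat.of R))) 2),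
        e (Sheaf.H.map (K674.EvTwo.mulGad (K674.HTwoBase.rho R a)) 2 y) = a * e y := by
  obtain ⟨s, hs⟩ := K674.HTwoBase.exists_not_pow p R kp hkp hdeg
  rcases hR with hR | ⟨hR, -⟩
  · have hP : IsPrincipalIdealRing R := by
      let _ := hR.toField
      infer_instance
    obtain ⟨x, hx⟩ := exists_pb_field
      ((IsFractionRing.surjective_iff_isField (R := R) (K := FractionRing R)).2 hR) kp hkp hdeg
    exact main_linear p R hx hs
  · obtain ⟨π, hπ⟩ := IsDiscreteValuationRing.exists_irreducible R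
    exact main_linear p R (pb_of_dvr kp hkp hdeg hπ) hs

end K674.HTwoMain
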