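import Groth.Agent.GaDual.K986.GaRetr
import Groth.Agent.GaDual.K771.HatTwo
import Groth.Agent.TateGlob.K828.BigCoh

/-!
# The functor `P = f_* f⁻¹` on the big fppf site and cohomology in low degrees

* `injective_P`: `P` preserves injectives.
* `eq_zero_of_lift`: `H^1(T, P F) = 0` if sections of `I / F` over `T ×_X X'` lift to `I`, `I` injective.
* `map_eta_eq_zero`: a class in `H^2(T, G)` which dies on `T ×_X X'` dies in `H^2(T, P G)` if `P` preserves the
  surjection `I ⟶ I / G`.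
-/

set_option autoImplicit false
universe u
open CategoryTheory CategoryTheory.Limits AlgebraicGeometry Opposite

noncomputable section

namespace K674.PushF

open Groth.Agent.Etdl.H432.Sec K986.GaRetr K828

local notation "𝒦" => Scheme.fppfPrecoverage

variable {X X' : Scheme.{u}} (f : X' ⟶ X)

/-- `f_* f⁻¹` -/
abbrev P : EtFppf.AbF X ⥤ EtFppf.AbF X :=
  BigSite.pullBig 𝒦 f AddCommGrpCat.{u + 1} ⋙ BigSite.pushBig 𝒦 f AddCommGrpCat.{u + 1}

variable {F G H : EtFppf.AbF X}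

/-- Sections of `P F`. -/
def ps {T : Over X} (s : Γs F (GG f T)) : Γs ((P f).obj F) T := s

theorem r_ps {T T' : Over X} (k : T' ⟶ T) (s : Γs F (GG f T)) :
    r ((P f).obj F) k (ps f s) = ps f (r F (Gh f k) s) := rfl

theorem m_ps (φ : F ⟶ G) {T : Over X} (s : Γs F (GG f T)) :
    m ((P f).map φ) T (ps f s) = ps f (m φ (GG f T) s) := rfl

/-- The unit. -/
def eta : 𝟭 (EtFppf.AbF X) ⟶ P f := (BigSite.bigAdj 𝒦 f AddCommGrpCat.{u + 1}).unit

theorem m_eta {T : Over X} (s : Γs F T) : m ((eta f).app F) T s = ps f (r F (pp f T) s) := rfl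

theorem injective_P (I : EtFppf.AbF X) [Injective I] : Injective ((P f).obj I) := by
  have := K828.Inj.injective_pullBig f 𝒦 I
  exact Injective.injective_of_adjoint (BigSite.bigAdj 𝒦 f AddCommGrpCat.{u + 1})
    ((BigSite.pullBig 𝒦 f AddCommGrpCat.{u + 1}).obj I)

theorem mono_P (φ : F ⟶ G) [Mono φ] : Mono ((P f).map φ) := by
  refine K731.Basic.mono_of_injective (K := 𝒦) _ fun T => ?_
  exact K731.Basic.injective_of_mono (K := 𝒦) φ (op (GG f T.unop))

theorem exact_P {A : ShortComplex (EtFppf.AbF X)} (hA : A.ShortExact) : (A.map (P f)).Exact := by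
  have := hA.mono_f
  refine K731.Basic.exact_of_sections (K := 𝒦) _ fun T x hx => ?_
  exact K731.Basic.exists_of_exact_of_mono (K := 𝒦) A hA.exact (T := op (GG f T)) x hx

theorem shortExact_P {A : ShortComplex (EtFppf.AbF X)} (hA : A.ShortExact) (he : Epi ((P f).map A.g)) :
    (A.map (P f)).ShortExact :=
  have := hA.mono_f
  { exact := exact_P f hA
    mono_f := mono_P f A.f
    epi_g := he }

/-- The cokernel sequence of a monomorphism. -/
theorem coker_shortExact {F G : EtFppf.AbF X} (c : F ⟶ G) [Mono c] :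
    (ShortComplex.mk c (cokernel.π c) (cokernel.condition c)).ShortExact :=
  { exact := ShortComplex.exact_cokernel _
    mono_f := inferInstanceAs (Mono c)
    epi_g := inferInstanceAs (Epi (cokernel.π c)) }

variable (𝓗 : CohT 𝒦 X)

/-- `H^1(T, P F) = 0` if sections of `I / F` over `T ×_X X'` lift to `I`. -/
theorem eq_zero_of_lift {A : ShortComplex (EtFppf.AbF X)} (hA : A.ShortExact) [Injective A.X₂] {T : Over X}
    (hlift : ∀ q : Γs A.X₃ (GG f T), ∃ s : Γs A.X₂ (GG f T), m A.g _ s = q)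
    (x : 𝓗.H ((P f).obj A.X₁) 1 T) : x = 0 := by
  have h1 := hA.mono_f
  have h2 := mono_P f A.f
  have h3 := injective_P f A.X₂
  have hB := coker_shortExact ((P f).map A.f)
  have hw : (P f).map A.f ≫ (P f).map A.g = 0 := (A.map (P f)).zero
  let κ : cokernel ((P f).map A.f) ⟶ (P f).obj A.X₃ := cokernel.desc _ ((P f).map A.g) hw
  have hκ : cokernel.π ((P f).map A.f) ≫ κ = (P f).map A.g := cokernel.π_desc _ _ _
  have hκm : Mono κ := (ShortComplex.exact_iff_mono_cokernel_desc (A.map (P f))).1 (exact_P f hA)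
  obtain ⟨y, rfl⟩ := 𝓗.exact₁ hB x (𝓗.inj ((P f).obj A.X₂) _)
  obtain ⟨s, hs⟩ := hlift (m κ T (𝓗.sec y))
  have hy : y = 𝓗.map (cokernel.π ((P f).map A.f)) (𝓗.sec.symm (ps f s)) := by
    apply 𝓗.sec.injective
    apply K731.Basic.injective_of_mono (K := 𝒦) κ (op T)
    have h4 : m κ T (m (cokernel.π ((P f).map A.f)) T (ps f s)) = m κ T (𝓗.sec y) := by
      rw [← m_comp, hκ, m_ps, hs]
      rfl
    rw [𝓗.sec_map, AddEquiv.apply_symm_apply]
    exact h4.symm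
  rw [hy]
  exact 𝓗.del_map hB _

/-- A class in `H^2(T, G)` which dies on `T ×_X X'` dies in `H^2(T, P G)` if `P I ⟶ P Q` is an epimorphism. -/
theorem map_eta_eq_zero {G I Q J R : EtFppf.AbF X} {i₁ : G ⟶ I} {π₁ : I ⟶ Q} {w₁ : i₁ ≫ π₁ = 0}
    (hA : (ShortComplex.mk i₁ π₁ w₁).ShortExact) [Injective I] {i₂ : Q ⟶ J} {π₂ : J ⟶ R} {w₂ : i₂ ≫ π₂ = 0}
    (hB : (ShortComplex.mk i₂ π₂ w₂).ShortExact) [Injective J] (he : Epi ((P f).map π₁)) {T : Over X}
    (x : 𝓗.H G 2 T) (hx : 𝓗.res (pp f T) x = 0) : 𝓗.map ((eta f).app G) x = 0 := by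
  have hm₂ : Mono i₂ := hB.mono_f
  obtain ⟨y, rfl⟩ := 𝓗.exact₁ hA x (𝓗.inj I _)
  obtain ⟨z, rfl⟩ := 𝓗.exact₁ hB y (𝓗.inj J _)
  -- the restriction of `z` lifts to `J`
  have h1 : 𝓗.res (pp f T) (𝓗.del hB z) = 0 := by
    have h2 : 𝓗.del hA (𝓗.res (pp f T) (𝓗.del hB z)) = 0 := (𝓗.del_res hA _ _).trans hx
    obtain ⟨b, hb⟩ := 𝓗.exact₃ hA _ h2
    have hb0 : b = 0 := 𝓗.inj I b
    rw [hb0] at hb
    exact hb.symm.trans (map_zero _)
  have h2 : 𝓗.del hB (𝓗.res (pp f T) z) = 0 := (𝓗.del_res hB _ _).trans h1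
  obtain ⟨j, hj⟩ := 𝓗.exact₃ hB _ h2
  have hj' : m π₂ _ (𝓗.sec j) = r R (pp f T) (𝓗.sec z) := by
    have h3 := congrArg 𝓗.sec hj
    exact ((𝓗.sec_map π₂ j).symm.trans h3).trans (𝓗.sec_res (pp f T) z)
  -- the sequences `P G ⟶ P I ⟶ P Q` and `P Q ⟶ P J ⟶ N`
  have hPA := shortExact_P f hA he
  have h4 := mono_P f i₂
  have hN := coker_shortExact ((P f).map i₂)
  have hw : (P f).map i₂ ≫ (P f).map π₂ = 0 := ((ShortComplex.mk i₂ π₂ w₂).map (P f)).zero
  let κ : cokernel ((P f).map i₂) ⟶ (P f).obj R := cokernel.desc _ ((P f).map π₂) hw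
  have hκ : cokernel.π ((P f).map i₂) ≫ κ = (P f).map π₂ := cokernel.π_desc _ _ _
  have hκm : Mono κ :=
    (ShortComplex.exact_iff_mono_cokernel_desc ((ShortComplex.mk i₂ π₂ w₂).map (P f))).1 (exact_P f hB)
  have hw' : i₂ ≫ (eta f).app J ≫ cokernel.π ((P f).map i₂) = 0 := by
    have h5 : i₂ ≫ (eta f).app J = (eta f).app Q ≫ (P f).map i₂ := (eta f).naturality i₂
    rw [← Category.assoc, h5, Category.assoc, cokernel.condition, comp_zero]
  have he₂' : Epi (ShortComplex.mk i₂ π₂ w₂).g := hB.epi_g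
  let θ : R ⟶ cokernel ((P f).map i₂) := hB.exact.desc ((eta f).app J ≫ cokernel.π ((P f).map i₂)) hw'
  have hθ : π₂ ≫ θ = (eta f).app J ≫ cokernel.π ((P f).map i₂) := hB.exact.g_desc _ hw'
  have he₂ : Epi π₂ := hB.epi_g
  have hθκ : θ ≫ κ = (eta f).app R := by
    rw [← cancel_epi π₂, ← Category.assoc, hθ, Category.assoc, hκ]
    exact ((eta f).naturality π₂).symm
  let ΦA : ShortComplex.mk i₁ π₁ w₁ ⟶ (ShortComplex.mk i₁ π₁ w₁).map (P f) :=
    { τ₁ := (eta f).app G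
      τ₂ := (eta f).app I
      τ₃ := (eta f).app Q
      comm₁₂ := ((eta f).naturality i₁).symm
      comm₂₃ := ((eta f).naturality π₁).symm }
  let ΦB : ShortComplex.mk i₂ π₂ w₂ ⟶ ShortComplex.mk _ _ (cokernel.condition ((P f).map i₂)) :=
    { τ₁ := (eta f).app Q
      τ₂ := (eta f).app J
      τ₃ := θ
      comm₁₂ := ((eta f).naturality i₂).symm
      comm₂₃ := hθ.symm }
  have h6 : 𝓗.map ((eta f).app G) (𝓗.del hA (𝓗.del hB z)) = 𝓗.del hPA (𝓗.map ((eta f).app Q) (𝓗.del hB z)) :=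
    (𝓗.del_nat hA hPA ΦA _).symm
  have h7 : 𝓗.map ((eta f).app Q) (𝓗.del hB z) = 𝓗.del hN (𝓗.map θ z) := (𝓗.del_nat hB hN ΦB _).symm
  have h8 : 𝓗.map θ z = 𝓗.map (cokernel.π ((P f).map i₂)) (𝓗.sec.symm (ps f (𝓗.sec j))) := by
    apply 𝓗.sec.injective
    apply K731.Basic.injective_of_mono (K := 𝒦) κ (op T)
    have h9 : m κ T (m θ T (𝓗.sec z)) = m κ T (m (cokernel.π ((P f).map i₂)) T (ps f (𝓗.sec j))) := by
      rw [← m_comp, ← m_comp, hθκ, hκ, m_ps, hj', m_eta]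
    rw [𝓗.sec_map, 𝓗.sec_map, AddEquiv.apply_symm_apply]
    exact h9
  have h10 : 𝓗.del hN (𝓗.map θ z) = 0 := by
    rw [h8]
    exact 𝓗.del_map hN _
  have h11 : 𝓗.map ((eta f).app Q) (𝓗.del hB z) = 0 := h7.trans h10
  exact h6.trans ((congrArg (𝓗.del hPA) h11).trans (map_zero (𝓗.del hPA)))

end K674.PushF
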