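import Groth.Agent.GaDual.K674.LogSeq
import Groth.Agent.GaDual.K674.DD
import Groth.Agent.GaDual.K674.EvTwo
import Groth.Agent.GaDual.K674.PushF
import Groth.Agent.GaDual.K771.FppfGa
import Groth.Agent.GaDual.K771.DvrLine

/-!
# Classes in `H^2(T, G_m)` which die on `T ×_{X, F} X`

* `epi_P`: `R^1 F_* G_m = 0`.
* `exists_delta`, `exists_psi`: for `T` affine such that sections of `G_m`-quotients over `T ×_{X, F} X` lift, the
  classes in `H^2(T, G_m)` dying on `T ×_{X, F} X` are the `dl a`, `a ∈ 𝒪(T)`, and `dl a = 0` iff `a` is in the image of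
  `psi`.
-/

set_option autoImplicit false
set_option linter.unusedSectionVars false
universe u
open CategoryTheory CategoryTheory.Limits AlgebraicGeometry Opposite

noncomputable section

namespace K674.LogDie

open K674.PBasis K674.PushF K674.FrobKill K674.LogPB K674.LogSeq K674.DD K986.GaRetr K771.Pts K771.AffHom K771.Aff
  Groth.Agent.Etdl.H432.Sec Groth.Agent.Etdl.H494 K828

local notation "𝒦" => Scheme.fppfPrecoverage

variable {X : Scheme.{u}} [IsAffine X] (p : ℕ) [hp : Fact p.Prime] [FrobSch.IsCharP X p] {ϖ : Γ(X, ⊤)} (h₀ : PBX p ϖ)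

include h₀ in
/-- `R^1 F_* G_m = 0`. -/
theorem epi_P {I Q : EtFppf.AbF X} {i₁ : Gm X ⟶ I} {π₁ : I ⟶ Q} {w₁ : i₁ ≫ π₁ = 0}
    (hA : (ShortComplex.mk i₁ π₁ w₁).ShortExact) : Epi ((P (Fr p)).map π₁) := by
  refine epi_of_affine _ fun T hT t => ?_
  have hsur : Surjective (FrobSch.frob X p) := ⟨fun x => ⟨x, rfl⟩⟩
  have hpp : Surjective (pp (Fr p) T).left :=
    inferInstanceAs (Surjective (pullback.fst T.hom (FrobSch.frob X p)))
  have key : ∀ x : T.left, ∃ g : O (GG (Fr p) T), x ∈ T.left.basicOpen ((pbT p h₀ T).rho g) ∧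
      ∃ (U : (GG (Fr p) T).left.Opens) (a : Γs I (opn (GG (Fr p) T) U)),
        (GG (Fr p) T).left.basicOpen g ≤ U ∧ m π₁ _ a = r Q (opnι _ U) (sp p t) := by
    intro x
    obtain ⟨y, hy⟩ := hpp.surj x
    obtain ⟨U, hyU, a, ha⟩ := K771.ZarH90.exists_zar_lift hA (Iso.refl _) (sp p t) y
    obtain ⟨g, hgU, hyg⟩ := (isAffineOpen_top (GG (Fr p) T).left).exists_basicOpen_le ⟨y, hyU⟩ trivial
    refine ⟨g, ?_, U, a, hgU, ha⟩
    have h1 : y ∈ (pp (Fr p) T).left ⁻¹ᵁ T.left.basicOpen ((pbT p h₀ T).rho g) := by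
      rw [Scheme.preimage_basicOpen_top]
      have h2 : (pp (Fr p) T).left.appTop ((pbT p h₀ T).rho g) = g ^ p := (pbT p h₀ T).i_rho g
      rw [h2, Scheme.basicOpen_pow _ _ hp.out.pos]
      exact hyg
    rw [← hy]
    exact h1
  choose g hg U a hgU ha using key
  refine ⟨ULift.{u + 1} T.left, fun x => opn T (T.left.basicOpen ((pbT p h₀ T).rho (g x.down))), fun x => opnι T _,
    isCov_opn _ (fun x => ⟨⟨x⟩, hg x⟩), fun x => ?_⟩
  have hV := isAffine_opn ((pbT p h₀ T).rho (g x.down))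
  let k := opnι T (T.left.basicOpen ((pbT p h₀ T).rho (g x.down)))
  have h1 : IsUnit (ro (Gh (Fr p) k) (g x.down)) := by
    apply (pbT p h₀ (opn T _)).isUnit_of_rho
    have h2 := rho_map (pbT p h₀ T) (pbT p h₀ (opn T _)) (ro k) (ro (Gh (Fr p) k)) (fun b => ro_pp p k b)
      (ro_Gh_lamT _ _ k) (g x.down)
    rw [h2]
    exact isUnit_ro_opnι _
  have h2 : ∀ w : (GG (Fr p) (opn T (T.left.basicOpen ((pbT p h₀ T).rho (g x.down))))).left,
      (Gh (Fr p) k).left w ∈ U x.down := by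
    intro w
    apply hgU x.down
    have h3 : w ∈ (Gh (Fr p) k).left ⁻¹ᵁ (GG (Fr p) T).left.basicOpen (g x.down) := by
      rw [Scheme.preimage_basicOpen_top]
      exact (Scheme.basicOpen_of_isUnit _ h1).ge trivial
    exact h3
  refine ⟨ps (Fr p) (r I (opnLift (Gh (Fr p) k) (U x.down) h2) (a x.down)), ?_⟩
  rw [m_ps, m_r, ha, r_r, opnLift_opnι]
  rfl

/-- Functions on the affine line over `X ⟶ X`. -/
theorem nonempty_ringEquiv : Nonempty (Polynomial Γ(X, ⊤) ≃+* Γ((GG (Fr p) (Red.Ga X)).left, ⊤)) := by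
  let V₁ : Over X := Over.mk (FrobSch.frob X p)
  have hV₁ : IsAffine V₁.left := inferInstanceAs (IsAffine X)
  have h1 : (Over.mkIdTerminal.from V₁).left = FrobSch.frob X p :=
    (Category.comp_id _).symm.trans (Over.w (Over.mkIdTerminal.from V₁))
  have h2 : (Over.mkIdTerminal.from (Red.Ga X)).left = (Red.Ga X).hom :=
    (Category.comp_id _).symm.trans (Over.w (Over.mkIdTerminal.from (Red.Ga X)))
  have hpb : IsPullback (K771.Line.πL V₁).left (K771.Line.pL V₁).left (Over.mkIdTerminal.from V₁).left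
      (Over.mkIdTerminal.from (Red.Ga X)).left := (K771.DvrLine.isPullback_pL V₁).map (Over.forget X)
  rw [h1, h2] at hpb
  let i : (K771.Line.L1 V₁).left ≅ pullback (Red.Ga X).hom (FrobSch.frob X p) :=
    hpb.flip.isoIsPullback _ _ (IsPullback.of_hasPullback (Red.Ga X).hom (FrobSch.frob X p))
  exact ⟨(K771.Line.eL V₁).trans (Scheme.Γ.mapIso i.symm.op).commRingCatIsoToRingEquiv⟩

/-- Sections of `G_m`-quotients over the base change of the affine line by Frobenius lift. -/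
theorem exists_lift_line [IsDomain Γ(X, ⊤)] [UniqueFactorizationMonoid Γ(X, ⊤)] [IsAffine (Red.Ga X).left]
    {A : ShortComplex (EtFppf.AbF X)} (hA : A.ShortExact) (e₁ : A.X₁ ≅ Gm X) (q : Γs A.X₃ (GG (Fr p) (Red.Ga X))) :
    ∃ s : Γs A.X₂ (GG (Fr p) (Red.Ga X)), m A.g _ s = q := by
  have hm := hA.mono_f
  obtain ⟨ε⟩ := nonempty_ringEquiv (X := X) p
  have h1 : IsDomain Γ((GG (Fr p) (Red.Ga X)).left, ⊤) := ε.symm.toMulEquiv.isDomain _
  have h2 : UniqueFactorizationMonoid Γ((GG (Fr p) (Red.Ga X)).left, ⊤) :=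
    ε.toMulEquiv.uniqueFactorizationMonoid inferInstance
  have h3 : Nonempty (GG (Fr p) (Red.Ga X)).left := by
    by_contra h
    rw [not_nonempty_iff] at h
    have : Subsingleton Γ((GG (Fr p) (Red.Ga X)).left, ⊤) := inferInstance
    exact not_subsingleton _ this
  exact K771.PicLift.exists_lift hA.exact e₁ _ (fun L hL => K771.PicUfd.pic_trivial _ L hL) q
    (fun x => K771.ZarH90.exists_zar_lift hA e₁ _ x)

variable (𝓗 : CohT 𝒦 X)

/-- The double connecting map `𝒪(T) ⟶ H^2(T, G_m)`. -/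
def dl (T : Over X) : Γs (Ga X) T →+ 𝓗.H (Gm X) 2 T := dd 𝓗 (shortExact_A p h₀) (shortExact_B p h₀) T

theorem res_dl {T T' : Over X} (k : T' ⟶ T) (a : Γs (Ga X) T) :
    𝓗.res k (dl p h₀ 𝓗 T a) = dl p h₀ 𝓗 T' (r (Ga X) k a) := res_dd _ _ _ _ _

theorem dl_psi {T : Over X} (y : Γs ((P (Fr p)).obj (Ga X)) T) : dl p h₀ 𝓗 T (m (psi p h₀) T y) = 0 := dd_m _ _ _ _

theorem exists_psi {T : Over X}
    (hL : ∀ q : Γs (K771.PicExt.injSeq (Gm X)).X₃ (GG (Fr p) T), ∃ s, m (K771.PicExt.injSeq (Gm X)).g _ s = q)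
    (a : Γs (Ga X) T) (ha : dl p h₀ 𝓗 T a = 0) : ∃ y, m (psi p h₀) T y = a :=
  exists_of_dd _ _ _ (eq_zero_of_lift (Fr p) 𝓗 (K771.PicExt.injSeq_shortExact (Gm X)) hL) _ ha

theorem exists_dl {T : Over X} (hGa : ∀ x : 𝓗.H (Ga X) 1 (GG (Fr p) T), x = 0) (x : 𝓗.H (Gm X) 2 T)
    (hx : 𝓗.res (pp (Fr p) T) x = 0) : ∃ a : Γs (Ga X) T, dl p h₀ 𝓗 T a = x :=
  exists_dd _ _ _ (eq_zero_of_lift (Fr p) 𝓗 (K771.PicExt.injSeq_shortExact (Ga X))
    (fun q => exists_sec_lift 𝓗 (K771.PicExt.injSeq_shortExact (Ga X)) hGa q)) _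
    (map_eta_eq_zero (Fr p) 𝓗 (K771.PicExt.injSeq_shortExact (Gm X))
      (K771.PicExt.injSeq_shortExact (K771.PicExt.injSeq (Gm X)).X₃)
      (epi_P p h₀ (K771.PicExt.injSeq_shortExact (Gm X))) x hx)

end K674.LogDie
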