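import Groth.Agent.GaDual.K674.PBasis
import Groth.Agent.GaDual.K674.FrobKill
import Mathlib.RingTheory.TensorProduct.IsBaseChangeFree

/-!
# Functions on `T ×_{X, F} X` for the Frobenius `F` of an affine scheme with a `p`-basis

* `PB.of_isPushout`: base change of `PB`.
* `pbT`: if `𝒪(X)` has basis `1, ϖ, …, ϖ ^ (p - 1)` over its `p`-th powers then `𝒪(T ×_{X, F} X)` has basis
  `1, ϖ, …, ϖ ^ (p - 1)` over `𝒪(T)`.
-/

set_option autoImplicit false
set_option linter.unusedSectionVars false
universe u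
open CategoryTheory CategoryTheory.Limits AlgebraicGeometry Opposite

noncomputable section

namespace K674.PBasis

section pushout

variable {p : ℕ}

theorem PB.exists_basis {A A' : Type u} [CommRing A] [CommRing A'] [Algebra A A'] {x : A'} {a₀ : A}
    (h : PB p (algebraMap A A') x a₀) : ∃ b : Module.Basis (Fin p) A A', ∀ j, b j = x ^ (j : ℕ) := by
  have li : LinearIndependent A (fun j : Fin p => x ^ (j : ℕ)) := by
    rw [Fintype.linearIndependent_iff]
    intro c hc j
    have h1 := h.inj c (by simpa only [Algebra.smul_def] using hc)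
    exact congrFun h1 j
  have sp : ⊤ ≤ Submodule.span A (Set.range (fun j : Fin p => x ^ (j : ℕ))) := by
    intro y _
    obtain ⟨c, rfl⟩ := h.ex y
    refine Submodule.sum_mem _ fun j _ => ?_
    rw [← Algebra.smul_def]
    exact Submodule.smul_mem _ _ (Submodule.subset_span ⟨j, rfl⟩)
  exact ⟨Module.Basis.mk li sp, fun j => by rw [Module.Basis.mk_apply]⟩

theorem PB.of_isPushout {A A' B B' : CommRingCat.{u}} {g : A ⟶ B} {i₀ : A ⟶ A'} {i : B ⟶ B'} {g' : A' ⟶ B'}
    (hpo : IsPushout g i₀ i g') {x : A'} {a₀ : A} (h : PB p i₀.hom x a₀) : PB p i.hom (g'.hom x) (g.hom a₀) := by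
  algebraize [g.hom, i₀.hom, i.hom, g'.hom, i.hom.comp g.hom]
  have : IsScalarTower A A' B' := .of_algebraMap_eq' congr(($(hpo.w)).hom)
  have h' : Algebra.IsPushout A B A' B' := (CommRingCat.isPushout_iff_isPushout).mp hpo
  obtain ⟨b, hb⟩ := PB.exists_basis (A := A) (A' := A') (x := x) (a₀ := a₀) h
  let b' : Module.Basis (Fin p) B B' := h'.out.basis b
  have hb' : ∀ j, b' j = g'.hom x ^ (j : ℕ) := fun j => by
    change h'.out.basis b j = _
    rw [IsBaseChange.basis_apply, hb]
    exact map_pow g'.hom x _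
  refine ⟨h.prime, ?_, ?_, fun y => ⟨fun j => b'.repr y j, ?_⟩, fun c hc => ?_⟩
  · rw [← map_natCast g.hom, h.zero, map_zero]
  · rw [← map_pow, h.pow]
    exact congr(($(hpo.w)).hom a₀).symm
  · conv_lhs => rw [← b'.sum_repr y]
    refine Finset.sum_congr rfl fun j _ => ?_
    rw [hb', Algebra.smul_def]
    rfl
  · have h1 := Fintype.linearIndependent_iff.1 b'.linearIndependent c (by
      rw [← hc]
      refine Finset.sum_congr rfl fun j _ => ?_
      rw [hb', Algebra.smul_def]
      rfl)
    exact funext h1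

end pushout

end K674.PBasis

namespace K674.LogPB

open K674.PBasis K674.PushF K674.FrobKill K986.GaRetr K771.Pts Groth.Agent.Etdl.H432.Sec Groth.Agent.Etdl.H494

variable {X : Scheme.{u}} [IsAffine X] (p : ℕ) [hp : Fact p.Prime] [FrobSch.IsCharP X p] (ϖ : Γ(X, ⊤))

/-- A `p`-basis. -/
abbrev PBX : Prop := PB p (FrobSch.frob X p).appTop.hom ϖ ϖ

variable {ϖ} (h₀ : PBX p ϖ)

instance isAffine_GG (T : Over X) [IsAffine T.left] : IsAffine (GG (FrobSch.frob X p) T).left :=
  inferInstanceAs (IsAffine (pullback T.hom (FrobSch.frob X p)))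

include h₀ in
theorem pbT (T : Over X) [IsAffine T.left] :
    PB p (ro (pp (FrobSch.frob X p) T)) (lamT (FrobSch.frob X p) ϖ T) (T.hom.appTop.hom ϖ) :=
  PB.of_isPushout (isPushout_appTop_of_isPullback (IsPullback.of_hasPullback T.hom (FrobSch.frob X p))) h₀

theorem ro_pp {T T' : Over X} (k : T' ⟶ T) (b : O T) :
    ro (Gh (FrobSch.frob X p) k) (ro (pp (FrobSch.frob X p) T) b) = ro (pp (FrobSch.frob X p) T') (ro k b) := by
  rw [ro_ro, ro_ro, Gh_pp]

theorem isUnit_ro_opnι {T : Over X} (h : O T) : IsUnit (ro (opnι T (T.left.basicOpen h)) h) := by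
  refine RingedSpace.isUnit_of_isUnit_germ _ _ _ fun y _ => ?_
  have h1 : y ∈ Scheme.basicOpen _ ((T.left.basicOpen h).ι.appTop h) := by
    rw [← Scheme.preimage_basicOpen_top]
    exact y.2
  exact (Scheme.mem_basicOpen_top _ _ _).1 h1

theorem isAffine_opn {T : Over X} [IsAffine T.left] (h : O T) : IsAffine (opn T (T.left.basicOpen h)).left :=
  (isAffineOpen_top T.left).basicOpen h

end K674.LogPB
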