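import Groth.Agent.GaDual.K674.LogPB

/-!
# The exact sequence `0 ⟶ G_m ⟶ F_* G_m ⟶ F_* G_a ⟶ G_a ⟶ 0` on the big fppf site

`F` the Frobenius of an affine scheme with a `p`-basis `ϖ`; the maps are the unit, `lam : u ↦ D u / u` and `psi`.
-/

set_option autoImplicit false
set_option linter.unusedSectionVars false
universe u
open CategoryTheory CategoryTheory.Limits AlgebraicGeometry Opposite

noncomputable section

namespace K674.LogSeq

open K674.PBasis K674.PushF K674.FrobKill K674.LogPB K986.GaRetr K771.Pts K771.AffHom K771.Aff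
  Groth.Agent.Etdl.H432.Sec Groth.Agent.Etdl.H494

variable {X : Scheme.{u}} [IsAffine X] (p : ℕ) [hp : Fact p.Prime] [FrobSch.IsCharP X p] {ϖ : Γ(X, ⊤)} (h₀ : PBX p ϖ)

/-- The Frobenius. -/
abbrev Fr : X ⟶ X := FrobSch.frob X p

/-- A section of `P F` as a section of `F`. -/
def sp {F : EtFppf.AbF X} {T : Over X} (s : Γs ((P (Fr (X := X) p)).obj F) T) : Γs F (GG (Fr p) T) := s

theorem ps_sp {F : EtFppf.AbF X} {T : Over X} (s : Γs ((P (Fr (X := X) p)).obj F) T) : ps (Fr p) (sp p s) = s := rfl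

theorem sp_ps {F : EtFppf.AbF X} {T : Over X} (s : Γs F (GG (Fr p) T)) : sp p (ps (Fr p) s) = s := rfl

theorem sp_add {F : EtFppf.AbF X} {T : Over X} (s t : Γs ((P (Fr (X := X) p)).obj F) T) :
    sp p (s + t) = sp p s + sp p t := rfl

theorem sp_zero {F : EtFppf.AbF X} {T : Over X} : sp p (0 : Γs ((P (Fr (X := X) p)).obj F) T) = 0 := rfl

theorem sp_r {F : EtFppf.AbF X} {T T' : Over X} (k : T' ⟶ T) (s : Γs ((P (Fr (X := X) p)).obj F) T) :
    sp p (r ((P (Fr p)).obj F) k s) = r F (Gh (Fr p) k) (sp p s) := rfl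

theorem sp_injective {F : EtFppf.AbF X} {T : Over X} {s t : Γs ((P (Fr (X := X) p)).obj F) T} (h : sp p s = sp p t) :
    s = t := h

include h₀ in
theorem der_ro {T T' : Over X} [IsAffine T.left] [IsAffine T'.left] (k : T' ⟶ T) (y : O (GG (Fr p) T)) :
    ro (Gh (Fr p) k) ((pbT p h₀ T).der y) = (pbT p h₀ T').der (ro (Gh (Fr p) k) y) :=
  (der_map (pbT p h₀ T) (pbT p h₀ T') (ro k) (ro (Gh (Fr p) k)) (fun b => ro_pp p k b) (ro_Gh_lamT _ _ k) y).symm

/-- The logarithmic derivative on affine objects. -/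
def lamAff (T : Over X) (hT : IsAffine T.left) :
    Γs ((P (Fr p)).obj (Gm X)) T →+ Γs ((P (Fr p)).obj (Ga X)) T :=
  AddMonoidHom.mk' (fun s => ps (Fr p) (gas ((pbT p h₀ T).der (gm (sp p s)) * gm (-sp p s)))) (fun s t => by
    apply sp_injective p
    rw [sp_ps, sp_add p (ps (Fr p) _) (ps (Fr p) _), sp_ps, sp_ps, ← gas_add, sp_add, neg_add]
    congr 1
    rw [gm_add, gm_add, Derivation.leibniz, smul_eq_mul, smul_eq_mul]
    have h1 := gm_mul_neg (sp p s)
    have h2 := gm_mul_neg (sp p t)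
    calc (gm (sp p s) * (pbT p h₀ T).der (gm (sp p t)) + gm (sp p t) * (pbT p h₀ T).der (gm (sp p s))) *
          (gm (-sp p s) * gm (-sp p t))
        = (gm (sp p t) * gm (-sp p t)) * ((pbT p h₀ T).der (gm (sp p s)) * gm (-sp p s)) +
          (gm (sp p s) * gm (-sp p s)) * ((pbT p h₀ T).der (gm (sp p t)) * gm (-sp p t)) := by ring
      _ = _ := by rw [h1, h2, one_mul, one_mul])

theorem lamAff_apply (T : Over X) (hT : IsAffine T.left) (s : Γs ((P (Fr p)).obj (Gm X)) T) :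
    lamAff p h₀ T hT s = ps (Fr p) (gas ((pbT p h₀ T).der (gm (sp p s)) * gm (-sp p s))) := rfl

/-- The logarithmic derivative. -/
def lam : (P (Fr p)).obj (Gm X) ⟶ (P (Fr p)).obj (Ga X) :=
  homA (lamAff p h₀) (fun T T' hT hT' k s => by
    rw [lamAff_apply, lamAff_apply, r_ps, r_gas, map_mul, der_ro p h₀, sp_r, gm_r, ← map_neg, gm_r])

theorem ga_lam (T : Over X) [hT : IsAffine T.left] (s : Γs ((P (Fr p)).obj (Gm X)) T) :
    ga (sp p (m (lam p h₀) T s)) = (pbT p h₀ T).der (gm (sp p s)) * gm (-sp p s) := by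
  rw [lam, m_homA _ _ T hT, lamAff_apply, sp_ps, ga_gas]

/-- `psi` on affine objects. -/
def psiAff (T : Over X) (hT : IsAffine T.left) : Γs ((P (Fr p)).obj (Ga X)) T →+ Γs (Ga X) T :=
  AddMonoidHom.mk' (fun s => gas ((pbT p h₀ T).psi (ga (sp p s)))) (fun s t => by
    rw [← gas_add, sp_add, ga_add, map_add])

theorem psiAff_apply (T : Over X) (hT : IsAffine T.left) (s : Γs ((P (Fr p)).obj (Ga X)) T) :
    psiAff p h₀ T hT s = gas ((pbT p h₀ T).psi (ga (sp p s))) := rfl

/-- The map `psi`. -/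
def psi : (P (Fr p)).obj (Ga X) ⟶ Ga X :=
  homA (psiAff p h₀) (fun T T' hT hT' k s => by
    rw [psiAff_apply, psiAff_apply, r_gas, sp_r, ga_r]
    congr 1
    exact (psi_map (pbT p h₀ T) (pbT p h₀ T') (ro k) (ro (Gh (Fr p) k)) (fun b => ro_pp p k b)
      (ro_Gh_lamT _ _ k) (ga (sp p s))).symm)

theorem ga_psi (T : Over X) [hT : IsAffine T.left] (s : Γs ((P (Fr p)).obj (Ga X)) T) :
    ga (m (psi p h₀) T s) = (pbT p h₀ T).psi (ga (sp p s)) := by
  rw [psi, m_homA _ _ T hT, psiAff_apply, ga_gas]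

theorem lam_psi : lam p h₀ ≫ psi p h₀ = 0 := by
  refine hom_ext_affine fun T hT s => ?_
  rw [m_comp, m_zero]
  apply ga_injective
  rw [ga_psi, ga_lam, (pbT p h₀ T).psi_dlog (gm_mul_neg _), ga_zero]

/-- The unit `G_m ⟶ F_* G_m`. -/
abbrev etaGm : Gm X ⟶ (P (Fr p)).obj (Gm X) := (PushF.eta (Fr p)).app (Gm X)

theorem gm_etaGm {T : Over X} (s : Γs (Gm X) T) : gm (sp p (m (etaGm p) T s)) = ro (pp (Fr p) T) (gm s) := by
  have h1 : sp p (m (etaGm p) T s) = r (Gm X) (pp (Fr p) T) s := rfl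
  rw [h1, gm_r]

theorem eta_lam : etaGm p ≫ lam p h₀ = 0 := by
  refine hom_ext_affine fun T hT s => ?_
  rw [m_comp, m_zero]
  apply sp_injective p
  apply ga_injective
  rw [ga_lam, gm_etaGm, (pbT p h₀ T).der_i, zero_mul, sp_zero, ga_zero]

/-- The kernel of `psi`. -/
abbrev Kp : EtFppf.AbF X := kernel (psi p h₀)

/-- `lam` with values in the kernel of `psi`. -/
def lamK : (P (Fr p)).obj (Gm X) ⟶ Kp p h₀ := kernel.lift (psi p h₀) (lam p h₀) (lam_psi p h₀)

theorem lamK_ι : lamK p h₀ ≫ kernel.ι (psi p h₀) = lam p h₀ := kernel.lift_ι _ _ _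

theorem etaGm_lamK : etaGm p ≫ lamK p h₀ = 0 := by
  rw [← cancel_mono (kernel.ι (psi p h₀)), Category.assoc, lamK_ι, eta_lam, Limits.zero_comp]

theorem injective_ι (T : Over X) : Function.Injective (m (kernel.ι (psi p h₀)) T) :=
  K731.Basic.injective_of_mono (K := Scheme.fppfPrecoverage) (kernel.ι (psi p h₀)) (op T)

theorem psi_i {p : ℕ} {B : Type u} {B' : Type u} [CommRing B] [CommRing B'] {i : B →+* B'} {x : B'} {b₀ : B}
    (h : PB p i x b₀) (b : B) : h.psi (i b) = b ^ p := by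
  have h1 : h.pol (i b) = Polynomial.C b :=
    h.pol_eq (by rw [Polynomial.natDegree_C]; exact h.prime.pos) (Polynomial.eval₂_C _ _)
  have h2 : h.tr (i b) = 0 := by
    rw [PB.tr, h1, Polynomial.coeff_C, if_neg]
    have := h.prime.two_le
    omega
  have h3 : h.rho (i b) = b ^ p := by
    apply h.i_injective
    rw [h.i_rho, map_pow]
  rw [h.psi_apply, h2, h3, sub_zero]

/-- The functions vanishing at a point. -/
def mx (T : Over X) (x : T.left) : Ideal (O T) :=
  (IsLocalRing.maximalIdeal (T.left.presheaf.stalk x)).comap (T.left.presheaf.germ ⊤ x trivial).hom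

theorem mx_ne_top (T : Over X) (x : T.left) : mx T x ≠ ⊤ := by
  rw [mx, Ne, Ideal.comap_eq_top_iff]
  exact Ideal.IsPrime.ne_top'

theorem mem_basicOpen {T : Over X} {x : T.left} {h : O T} (hh : h ∉ mx T x) : x ∈ T.left.basicOpen h := by
  rw [mx, Ideal.mem_comap, IsLocalRing.mem_maximalIdeal, mem_nonunits_iff, not_not] at hh
  exact (Scheme.mem_basicOpen_top _ _ _).2 hh

/-- `0 ⟶ G_m ⟶ F_* G_m ⟶ K ⟶ 0`. -/
theorem shortExact_A : (ShortComplex.mk (etaGm p) (lamK p h₀) (etaGm_lamK p h₀)).ShortExact := by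
  refine shortExact_of_affine _ (fun T hT s hs => ?_) (fun T hT s hs => ?_) (fun T hT t => ?_)
  · change Γs (Gm X) T at s
    change s = 0
    apply gm_injective
    have h1 : gm (sp p (m (etaGm p) T s)) = 1 := by
      have h2 : m (etaGm p) T s = 0 := hs
      rw [h2, sp_zero, gm_zero]
    rw [gm_etaGm] at h1
    rw [gm_zero]
    exact (pbT p h₀ T).i_injective (h1.trans (map_one _).symm)
  · change Γs ((P (Fr p)).obj (Gm X)) T at s
    have h1 : m (lam p h₀) T s = 0 := by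
      rw [← lamK_ι, m_comp]
      have h2 : m (lamK p h₀) T s = 0 := hs
      rw [h2, map_zero]
    have h2 : ∀ t : Γs ((P (Fr p)).obj (Gm X)) T, m (lam p h₀) T t = 0 → (pbT p h₀ T).der (gm (sp p t)) = 0 := by
      intro t ht
      have h3 := ga_lam p h₀ T t
      rw [ht, sp_zero, ga_zero] at h3
      calc (pbT p h₀ T).der (gm (sp p t))
          = ((pbT p h₀ T).der (gm (sp p t)) * gm (-sp p t)) * gm (sp p t) := by
            rw [mul_assoc, gm_neg_mul, mul_one]
        _ = 0 := by rw [← h3, zero_mul]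
    obtain ⟨b, hb⟩ := (pbT p h₀ T).exists_of_der_eq_zero (h2 s h1)
    obtain ⟨c, hc⟩ := (pbT p h₀ T).exists_of_der_eq_zero (h2 (-s) (by rw [map_neg, h1, neg_zero]))
    have hbc : b * c = 1 := by
      apply (pbT p h₀ T).i_injective
      rw [map_mul, hb, hc, map_one]
      exact gm_mul_neg (sp p s)
    obtain ⟨a, ha⟩ := exists_gm (U := T) (IsUnit.of_mul_eq_one c hbc)
    refine ⟨a, ?_⟩
    change m (etaGm p) T a = s
    apply sp_injective p
    apply gm_injective
    rw [gm_etaGm, ha, hb]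
  · change Γs (Kp p h₀) T at t
    let y : Γs (Ga X) (GG (Fr p) T) := sp p (m (kernel.ι (psi p h₀)) T t)
    have hy : (pbT p h₀ T).psi (ga y) = 0 := by
      have h1 : m (psi p h₀) T (m (kernel.ι (psi p h₀)) T t) = 0 := by
        rw [← m_comp, kernel.condition, m_zero]
      have h2 := ga_psi p h₀ T (m (kernel.ι (psi p h₀)) T t)
      rw [h1, ga_zero] at h2
      exact h2.symm
    choose g hg hg' using fun x : T.left => (pbT p h₀ T).exists_dlog hy (mx T x) (mx_ne_top T x)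
    refine ⟨ULift.{u + 1} T.left, fun x => opn T (T.left.basicOpen ((pbT p h₀ T).rho (g x.down))), fun x => opnι T _,
      isCov_opn _ (fun x => ⟨⟨x⟩, mem_basicOpen (hg x)⟩), fun x => ?_⟩
    have hV := isAffine_opn ((pbT p h₀ T).rho (g x.down))
    let k := opnι T (T.left.basicOpen ((pbT p h₀ T).rho (g x.down)))
    have h1 : IsUnit (ro (Gh (Fr p) k) (g x.down)) := by
      apply (pbT p h₀ (opn T _)).isUnit_of_rho
      have h2 := rho_map (pbT p h₀ T) (pbT p h₀ (opn T _)) (ro k) (ro (Gh (Fr p) k)) (fun b => ro_pp p k b)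
        (ro_Gh_lamT _ _ k) (g x.down)
      rw [h2]
      exact isUnit_ro_opnι _
    obtain ⟨s, hs⟩ := exists_gm (U := GG (Fr p) (opn T _)) h1
    refine ⟨ps (Fr p) s, ?_⟩
    apply injective_ι p h₀
    change m (kernel.ι (psi p h₀)) _ (m (lamK p h₀) _ (ps (Fr p) s)) = m (kernel.ι (psi p h₀)) _ (r (Kp p h₀) k t)
    rw [← m_comp, lamK_ι, m_r]
    apply sp_injective p
    apply ga_injective
    rw [ga_lam, sp_ps, hs, ← der_ro p h₀, hg', map_mul, mul_assoc, ← hs, gm_mul_neg, mul_one, sp_r, ga_r]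

/-- `0 ⟶ K ⟶ F_* G_a ⟶ G_a ⟶ 0`. -/
theorem shortExact_B : (ShortComplex.mk (kernel.ι (psi p h₀)) (psi p h₀) (kernel.condition _)).ShortExact where
  exact := ShortComplex.exact_of_f_is_kernel _ (kernelIsKernel (psi p h₀))
  mono_f := inferInstanceAs (Mono (kernel.ι (psi p h₀)))
  epi_g := by
    refine epi_of_affine (psi p h₀) fun T hT t => ?_
    let f : Polynomial (O T) := Polynomial.X ^ p - Polynomial.C (ga t)
    have hf : f.Monic := Polynomial.monic_X_pow_sub_C _ hp.out.ne_zero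
    rcases subsingleton_or_nontrivial (O T) with hA | hA
    · refine ⟨PUnit, fun _ => T, fun _ => 𝟙 T, isCov_id T, fun _ => ⟨0, ?_⟩⟩
      apply ga_injective
      exact Subsingleton.elim _ _
    refine ⟨PUnit, fun _ => aff (AdjoinRoot.of f), fun _ => π (AdjoinRoot.of f),
      K771.FrobSeq.isCov_π _ (K771.FrobSeq.faithfullyFlat_adjoinRoot hf ?_) ?_,
      fun _ => ⟨ps (Fr p) (gas (ro (pp (Fr p) _) (e (AdjoinRoot.of f) (AdjoinRoot.root f)))), ?_⟩⟩
    · rw [Polynomial.natDegree_X_pow_sub_C]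
      exact hp.out.pos
    · exact (RingHom.finitePresentation_algebraMap (A := O T) (B := AdjoinRoot f)).2 inferInstance
    · apply ga_injective
      rw [ga_psi, sp_ps, ga_gas, psi_i, ga_r, ro_π, ← map_pow]
      congr 1
      have h1 := AdjoinRoot.eval₂_root f
      simp only [f, Polynomial.eval₂_sub, Polynomial.eval₂_X_pow, Polynomial.eval₂_C, sub_eq_zero] at h1
      exact h1

end K674.LogSeq
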