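import Groth.Agent.Models.H43.PCurv
import Mathlib.Algebra.Polynomial.Div
import Mathlib.Algebra.Polynomial.Derivative
import Mathlib.NumberTheory.Wilson
import Mathlib.Algebra.Polynomial.Eval.Degree
import Groth.Prelude.Def_Frob

/-!
# Extensions `B → B'` of rings with `p = 0`, free with basis `1, x, …, x ^ (p - 1)`, `x ^ p = b₀`

* `PB.der`: the `B`-linear derivation with `D x = 1`; its kernel is `B`; `D ^ p = 0`.
* `PB.rho`: the ring homomorphism `B' → B` with `y ^ p = ρ(y)`; `PB.psi y = ρ(y) - (last coordinate of y)`, so that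
  `D ^ (p - 1) y + y ^ p = ψ(y)`.
* `PB.psi_dlog`: `ψ (D u / u) = 0`; `PB.exists_dlog`: local converse.
-/

set_option autoImplicit false
set_option linter.unusedSectionVars false
set_option linter.overlappingInstances false

universe u v

open Polynomial

namespace K674.PBasis

/-- `B'` is free over `B` with basis `1, x, …, x ^ (p - 1)`, and `x ^ p = i b₀`. -/
structure PB (p : ℕ) {B : Type u} {B' : Type v} [CommRing B] [CommRing B'] (i : B →+* B') (x : B') (b₀ : B) : Prop where
  prime : p.Prime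
  zero : (p : B) = 0
  pow : x ^ p = i b₀
  ex : ∀ y : B', ∃ c : Fin p → B, y = ∑ j, i (c j) * x ^ (j : ℕ)
  inj : ∀ c : Fin p → B, ∑ j, i (c j) * x ^ (j : ℕ) = 0 → c = 0

variable {p : ℕ} {B : Type u} {B' : Type v} [CommRing B] [CommRing B'] {i : B →+* B'} {x : B'} {b₀ : B}

namespace PB

variable (h : PB p i x b₀)

include h

theorem zero' : (p : B') = 0 := by
  rw [← map_natCast i, h.zero, map_zero]

theorem uniq {c d : Fin p → B} (e : ∑ j, i (c j) * x ^ (j : ℕ) = ∑ j, i (d j) * x ^ (j : ℕ)) : c = d := by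
  rw [← sub_eq_zero]
  apply h.inj
  simp only [Pi.sub_apply, map_sub, sub_mul, Finset.sum_sub_distrib, e, sub_self]

theorem ev_eq {P : B[X]} (hP : P.natDegree < p) : eval₂ i x P = ∑ j : Fin p, i (P.coeff j) * x ^ (j : ℕ) := by
  rw [eval₂_eq_sum_range' i hP, Finset.sum_range]

theorem eq_zero_of_ev {P : B[X]} (hP : P.natDegree < p) (h0 : eval₂ i x P = 0) : P = 0 := by
  rw [h.ev_eq hP] at h0
  have h1 := h.inj _ h0
  ext n
  rw [coeff_zero]
  by_cases hn : n < p
  · exact congrFun h1 ⟨n, hn⟩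
  · exact coeff_eq_zero_of_natDegree_lt (by omega)

theorem exists_poly (y : B') : ∃ P : B[X], P.natDegree < p ∧ eval₂ i x P = y := by
  obtain ⟨c, hc⟩ := h.ex y
  refine ⟨∑ j : Fin p, C (c j) * X ^ (j : ℕ), ?_, ?_⟩
  · refine lt_of_le_of_lt (natDegree_sum_le_of_forall_le (n := p - 1) _ _ fun j _ => ?_)
      (Nat.sub_lt h.prime.pos one_pos)
    exact (natDegree_C_mul_X_pow_le _ _).trans (by omega)
  · rw [eval₂_finsetSum, hc]
    exact Finset.sum_congr rfl fun j _ => by simp

theorem exists_mul {P : B[X]} (h0 : eval₂ i x P = 0) : ∃ Q : B[X], P = (X ^ p - C b₀) * Q := by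
  rcases subsingleton_or_nontrivial B with hB | hB
  · exact ⟨0, Subsingleton.elim _ _⟩
  have hm : (X ^ p - C b₀ : B[X]).Monic := monic_X_pow_sub_C b₀ h.prime.ne_zero
  refine ⟨P /ₘ (X ^ p - C b₀), ?_⟩
  have h1 : eval₂ i x (P %ₘ (X ^ p - C b₀)) = 0 := by
    have h2 := congrArg (eval₂ i x) (modByMonic_add_div P (q := X ^ p - C b₀))
    rw [eval₂_add, eval₂_mul, h0] at h2
    simpa [h.pow] using h2
  have h3 : P %ₘ (X ^ p - C b₀) = 0 := by
    refine h.eq_zero_of_ev ?_ h1
    have h4 := natDegree_modByMonic_lt P hm (fun e => by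
      have := congrArg natDegree e
      rw [natDegree_X_pow_sub_C, natDegree_one] at this
      exact h.prime.ne_zero this)
    rwa [natDegree_X_pow_sub_C] at h4
  conv_lhs => rw [← modByMonic_add_div P (q := X ^ p - C b₀), h3, zero_add]

theorem ev_derivative_eq_zero {P : B[X]} (h0 : eval₂ i x P = 0) : eval₂ i x (derivative P) = 0 := by
  obtain ⟨Q, rfl⟩ := h.exists_mul h0
  have h1 : derivative (X ^ p : B[X]) = 0 := by
    rw [derivative_X_pow, h.zero, C_0, zero_mul]
  rw [derivative_mul]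
  simp [h.pow, h1]

/-- A polynomial representing `y`. -/
noncomputable def pol (y : B') : B[X] := (h.exists_poly y).choose

theorem natDegree_pol (y : B') : (h.pol y).natDegree < p := (h.exists_poly y).choose_spec.1

theorem ev_pol (y : B') : eval₂ i x (h.pol y) = y := (h.exists_poly y).choose_spec.2

theorem pol_eq {y : B'} {P : B[X]} (hP : P.natDegree < p) (e : eval₂ i x P = y) : h.pol y = P := by
  rw [← sub_eq_zero]
  refine h.eq_zero_of_ev ?_ ?_
  · exact lt_of_le_of_lt (natDegree_sub_le _ _) (max_lt (h.natDegree_pol y) hP)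
  · rw [eval₂_sub, h.ev_pol, e, sub_self]

/-- The underlying function of the derivation. -/
noncomputable def dfun (y : B') : B' := eval₂ i x (derivative (h.pol y))

theorem dfun_ev (P : B[X]) : h.dfun (eval₂ i x P) = eval₂ i x (derivative P) := by
  have h1 : eval₂ i x (h.pol (eval₂ i x P) - P) = 0 := by
    rw [eval₂_sub, h.ev_pol, sub_self]
  have h2 := h.ev_derivative_eq_zero h1
  rw [derivative_sub, eval₂_sub, sub_eq_zero] at h2
  exact h2

/-- The `B`-linear derivation with `D x = 1`. -/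
noncomputable def der : Derivation ℤ B' B' :=
  Derivation.mk' (AddMonoidHom.toIntLinearMap (AddMonoidHom.mk' h.dfun (fun y z => by
    rw [← h.ev_pol y, ← h.ev_pol z, ← eval₂_add, h.dfun_ev, h.dfun_ev, h.dfun_ev, derivative_add, eval₂_add])))
  (fun y z => by
    change h.dfun (y * z) = y • h.dfun z + z • h.dfun y
    rw [← h.ev_pol y, ← h.ev_pol z, ← eval₂_mul, h.dfun_ev, h.dfun_ev, h.dfun_ev, derivative_mul, eval₂_add,
      eval₂_mul, eval₂_mul, smul_eq_mul, smul_eq_mul]
    ring)

theorem der_ev (P : B[X]) : h.der (eval₂ i x P) = eval₂ i x (derivative P) := h.dfun_ev P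

theorem der_i (b : B) : h.der (i b) = 0 := by
  have h1 := h.der_ev (C b)
  rwa [eval₂_C, derivative_C, eval₂_zero] at h1

theorem der_x : h.der x = 1 := by
  have h1 := h.der_ev X
  rwa [eval₂_X, derivative_X, eval₂_one] at h1

theorem der_iter (n : ℕ) (P : B[X]) : h.der^[n] (eval₂ i x P) = eval₂ i x (derivative^[n] P) := by
  induction n generalizing P with
  | zero => rfl
  | succ n ih => rw [Function.iterate_succ_apply, Function.iterate_succ_apply, h.der_ev, ih]

theorem der_p (y : B') : h.der^[p] y = 0 := by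
  rw [← h.ev_pol y, h.der_iter]
  have h1 : derivative^[p] (h.pol y) = 0 := iterate_derivative_eq_zero (h.natDegree_pol y)
  rw [h1, eval₂_zero]

/-- The last coordinate. -/
noncomputable def tr (y : B') : B := (h.pol y).coeff (p - 1)

theorem wilson : (((p - 1).factorial : ℕ) : B) = -1 := by
  have hp : Fact p.Prime := ⟨h.prime⟩
  have h1 := ZMod.wilsons_lemma p
  have h2 : (((p - 1).factorial + 1 : ℕ) : ZMod p) = 0 := by
    rw [Nat.cast_add, h1, Nat.cast_one, neg_add_cancel]
  rw [ZMod.natCast_eq_zero_iff] at h2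
  obtain ⟨m, hm⟩ := h2
  have h3 : (((p - 1).factorial + 1 : ℕ) : B) = 0 := by
    rw [hm, Nat.cast_mul, h.zero, zero_mul]
  rw [Nat.cast_add, Nat.cast_one] at h3
  exact eq_neg_of_add_eq_zero_left h3

theorem der_pred (y : B') : h.der^[p - 1] y = - i (h.tr y) := by
  conv_lhs => rw [← h.ev_pol y]
  rw [h.der_iter]
  have h1 : derivative^[p - 1] (h.pol y) = C (- h.tr y) := by
    ext n
    rw [coeff_iterate_derivative, coeff_C]
    split_ifs with hn
    · subst hn
      rw [zero_add, Nat.descFactorial_self, nsmul_eq_mul, h.wilson, neg_one_mul]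
      rfl
    · rw [coeff_eq_zero_of_natDegree_lt (by have := h.natDegree_pol y; omega), smul_zero]
  rw [h1, eval₂_C, map_neg]

/-- The homomorphism `ρ` with `y ^ p = ρ(y)`. -/
noncomputable def rhoF (y : B') : B := ∑ j : Fin p, (h.pol y).coeff j ^ p * b₀ ^ (j : ℕ)

theorem i_injective : Function.Injective i := by
  rw [injective_iff_map_eq_zero]
  intro b hb
  have h1 : (C b : B[X]) = 0 := h.eq_zero_of_ev (by rw [natDegree_C]; exact h.prime.pos) (by rw [eval₂_C, hb])
  exact C_eq_zero.1 h1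

theorem pow_sum {ι : Type*} (s : Finset ι) (f : ι → B') : (∑ j ∈ s, f j) ^ p = ∑ j ∈ s, f j ^ p := by
  have hp : Fact p.Prime := ⟨h.prime⟩
  exact map_sum (FrobSch.powHom p B' h.zero') f s

theorem i_rhoF (y : B') : i (h.rhoF y) = y ^ p := by
  conv_rhs => rw [← h.ev_pol y, h.ev_eq (h.natDegree_pol y), h.pow_sum]
  rw [rhoF, map_sum]
  refine Finset.sum_congr rfl fun j _ => ?_
  rw [map_mul, map_pow, map_pow, ← h.pow, mul_pow, ← pow_mul, ← pow_mul, mul_comm p]

/-- The homomorphism `ρ : B' → B` with `y ^ p = ρ(y)`. -/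
noncomputable def rho : B' →+* B where
  toFun := h.rhoF
  map_one' := h.i_injective (by rw [h.i_rhoF, one_pow, map_one])
  map_mul' y z := h.i_injective (by rw [h.i_rhoF, map_mul, h.i_rhoF, h.i_rhoF, mul_pow])
  map_zero' := h.i_injective (by rw [h.i_rhoF, zero_pow h.prime.ne_zero, map_zero])
  map_add' y z := h.i_injective (by
    have hp : Fact p.Prime := ⟨h.prime⟩
    rw [h.i_rhoF, map_add, h.i_rhoF, h.i_rhoF]
    exact map_add (FrobSch.powHom p B' h.zero') y z)

theorem i_rho (y : B') : i (h.rho y) = y ^ p := h.i_rhoF y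

theorem rho_eq (y : B') : h.rho y = ∑ j : Fin p, (h.pol y).coeff j ^ p * b₀ ^ (j : ℕ) := rfl

theorem pol_add (y z : B') : h.pol (y + z) = h.pol y + h.pol z := by
  refine h.pol_eq ?_ ?_
  · exact lt_of_le_of_lt (natDegree_add_le _ _) (max_lt (h.natDegree_pol y) (h.natDegree_pol z))
  · rw [eval₂_add, h.ev_pol, h.ev_pol]

theorem tr_add (y z : B') : h.tr (y + z) = h.tr y + h.tr z := by
  rw [tr, h.pol_add, coeff_add]
  rfl

/-- `ψ(y) = ρ(y) - tr(y)`. -/
noncomputable def psi : B' →+ B :=
  AddMonoidHom.mk' (fun y => h.rho y - h.tr y) (fun y z => by rw [map_add, h.tr_add]; abel)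

theorem psi_apply (y : B') : h.psi y = h.rho y - h.tr y := rfl

theorem i_psi (y : B') : i (h.psi y) = h.der^[p - 1] y + y ^ p := by
  rw [psi_apply, map_sub, h.i_rho, h.der_pred, sub_eq_add_neg, add_comm]

theorem exists_of_der_eq_zero {y : B'} (hy : h.der y = 0) : ∃ b : B, i b = y := by
  have h1 : derivative (h.pol y) = 0 := by
    refine h.eq_zero_of_ev ?_ ?_
    · have := natDegree_derivative_le (h.pol y)
      have := h.natDegree_pol y
      omega
    · rw [← h.der_ev, h.ev_pol, hy]
  refine ⟨(h.pol y).coeff 0, ?_⟩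
  conv_rhs => rw [← h.ev_pol y]
  have h2 : h.pol y = C ((h.pol y).coeff 0) := by
    ext n
    rw [coeff_C]
    split_ifs with hn
    · rw [hn]
    · by_cases hn' : n < p
      · have h3 := congrArg (fun P => P.coeff (n - 1)) h1
        simp only [coeff_derivative, coeff_zero] at h3
        rw [show n - 1 + 1 = n by omega] at h3
        obtain ⟨m, hm⟩ := Groth.Agent.Models.H43.PCurv.exists_nat_inv h.prime h.zero (Nat.pos_of_ne_zero hn) hn'
        have h4 : ((n - 1 : ℕ) : B) + 1 = (n : B) := by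
          rw [← Nat.cast_succ, Nat.succ_eq_add_one, show n - 1 + 1 = n by omega]
        rw [h4] at h3
        calc (h.pol y).coeff n = (h.pol y).coeff n * ((m : B) * (n : B)) := by rw [hm, mul_one]
          _ = (m : B) * ((h.pol y).coeff n * (n : B)) := by ring
          _ = 0 := by rw [h3, mul_zero]
      · exact coeff_eq_zero_of_natDegree_lt (by have := h.natDegree_pol y; omega)
  rw [h2, eval₂_C, coeff_C_zero]

/-- `ψ` kills logarithmic derivatives. -/
theorem psi_dlog {u v : B'} (huv : u * v = 1) : h.psi (h.der u * v) = 0 := by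
  apply h.i_injective
  rw [h.i_psi, map_zero]
  set g := h.der u * v with hg
  have h1 : ∀ z, u * (h.der z + g * z) = h.der (u * z) := by
    intro z
    rw [Derivation.leibniz, smul_eq_mul, smul_eq_mul, hg]
    calc u * (h.der z + h.der u * v * z) = u * h.der z + (u * v) * (z * h.der u) := by ring
      _ = _ := by rw [huv, one_mul]
  have h2 : ∀ n z, u * ((fun z => h.der z + g * z)^[n] z) = h.der^[n] (u * z) := by
    intro n
    induction n with
    | zero => intro z; rfl
    | succ n ih =>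
      intro z
      rw [Function.iterate_succ_apply, Function.iterate_succ_apply, ih, h1]
  have h3 := h2 p 1
  rw [h.der_p] at h3
  have h4 := Groth.Agent.Models.H43.PCurv.add_pow_derivation h.prime h.zero' h.der g 1
  rw [h.der_p, zero_add, mul_one] at h4
  rw [h4] at h3
  calc h.der^[p - 1] g + g ^ p = (u * v) * (h.der^[p - 1] g + g ^ p) := by rw [huv, one_mul]
    _ = v * (u * (h.der^[p - 1] g + g ^ p)) := by ring
    _ = 0 := by rw [h3, mul_zero]

/-- Local solutions of `D g = y g` if `ψ(y) = 0`. -/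
theorem exists_dlog {y : B'} (hy : h.psi y = 0) (𝔪 : Ideal B) (h𝔪 : 𝔪 ≠ ⊤) :
    ∃ g : B', h.rho g ∉ 𝔪 ∧ h.der g = y * g := by
  have h1 : h.der^[p - 1] y + y ^ p = 0 := by rw [← h.i_psi, hy, map_zero]
  obtain ⟨g, hg, hg'⟩ := Groth.Agent.Models.H43.PCurv.exists_solution (ι := Unit) h.prime h.zero' (fun _ => h.der)
    (fun _ => x) (fun _ => h.der_x) (fun a b hab => absurd (Subsingleton.elim a b) hab) (fun _ _ _ => rfl)
    (fun _ b => h.der_p b) (fun _ => y) (fun _ _ => rfl) (fun _ => h1) (𝔪.comap h.rho) (by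
      rw [Ne, Ideal.comap_eq_top_iff]
      exact h𝔪)
  exact ⟨g, hg, hg' ()⟩

theorem isUnit_of_rho {g : B'} (hg : IsUnit (h.rho g)) : IsUnit g := by
  have h1 := hg.map i
  rw [h.i_rho] at h1
  exact (isUnit_pow_iff h.prime.ne_zero).1 h1

end PB

section nat

variable (h : PB p i x b₀) {C₀ : Type u} {C' : Type v} [CommRing C₀] [CommRing C'] {k : C₀ →+* C'} {z : C'} {c₀ : C₀}
  (h' : PB p k z c₀) (β : B →+* C₀) (β' : B' →+* C') (hβ : ∀ b, β' (i b) = k (β b)) (hx : β' x = z)

include hβ hx in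
theorem ev_map (P : B[X]) : β' (eval₂ i x P) = eval₂ k z (P.map β) := by
  rw [hom_eval₂, eval₂_map, hx]
  congr 1
  exact RingHom.ext hβ

include hβ hx in
theorem pol_map (y : B') : h'.pol (β' y) = (h.pol y).map β := by
  refine h'.pol_eq ?_ ?_
  · exact lt_of_le_of_lt natDegree_map_le (h.natDegree_pol y)
  · rw [← ev_map β β' hβ hx, h.ev_pol]

include hβ hx in
theorem der_map (y : B') : h'.der (β' y) = β' (h.der y) := by
  conv_rhs => rw [← h.ev_pol y, h.der_ev, ev_map β β' hβ hx, ← derivative_map]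
  conv_lhs => rw [← h'.ev_pol (β' y), h'.der_ev, pol_map h h' β β' hβ hx]

include hβ hx in
theorem rho_map (y : B') : h'.rho (β' y) = β (h.rho y) := by
  apply h'.i_injective
  rw [h'.i_rho, ← hβ, h.i_rho, map_pow]

include hβ hx in
theorem tr_map (y : B') : h'.tr (β' y) = β (h.tr y) := by
  rw [PB.tr, pol_map h h' β β' hβ hx, coeff_map]
  rfl

include hβ hx in
theorem psi_map (y : B') : h'.psi (β' y) = β (h.psi y) := by
  rw [h'.psi_apply, h.psi_apply, map_sub, rho_map h h' β β' hβ hx, tr_map h h' β β' hβ hx]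

end nat

end K674.PBasis
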