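import Groth.Agent.GaDual.K674.PBasis
import Mathlib.Algebra.Polynomial.Roots
import Mathlib.Algebra.Polynomial.Expand

/-!
# Polynomials modulo `Ψ(c) = ∑ c_j ^ p ϖ ^ j - c_(p-1)` which are additive

`R` a domain with `p`-basis `ϖ`.  `S ⊆ R[X]` is the set of all `Ψ(c)`.

* `eq_zero_of_mem`: `c X ∈ S` implies `c = 0`.
* `exists_linear`: if `a((s+1)X) - a(sX) - a(X) ∈ S` for all `s ∈ R` then `a - c X ∈ S` for some `c`.
-/

set_option autoImplicit false
set_option linter.unusedSectionVars false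
universe u v
open Polynomial

noncomputable section

namespace K674.PBasis

section psi

variable {p : ℕ} {B : Type u} {B' : Type v} [CommRing B] [CommRing B'] {i : B →+* B'} {x : B'} {b₀ : B}
  (h : PB p i x b₀)

include h

theorem PB.pol_sum (c : Fin p → B) : h.pol (∑ j, i (c j) * x ^ (j : ℕ)) = ∑ j : Fin p, C (c j) * X ^ (j : ℕ) := by
  refine h.pol_eq ?_ ?_
  · refine lt_of_le_of_lt (natDegree_sum_le_of_forall_le (n := p - 1) _ _ fun j _ => ?_)
      (Nat.sub_lt h.prime.pos one_pos)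
    exact (natDegree_C_mul_X_pow_le _ _).trans (by omega)
  · rw [eval₂_finsetSum]
    exact Finset.sum_congr rfl fun j _ => by simp

theorem PB.coeff_pol_sum (c : Fin p → B) (l : Fin p) : (h.pol (∑ j, i (c j) * x ^ (j : ℕ))).coeff l = c l := by
  rw [h.pol_sum, finsetSum_coeff, Finset.sum_eq_single l]
  · simp
  · intro j _ hj
    rw [coeff_C_mul_X_pow, if_neg]
    exact fun e => hj (Fin.ext e.symm)
  · exact fun e => absurd (Finset.mem_univ _) e

/-- The last index. -/
def PB.last : Fin p := ⟨p - 1, Nat.sub_lt h.prime.pos one_pos⟩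

theorem PB.tr_sum (c : Fin p → B) : h.tr (∑ j, i (c j) * x ^ (j : ℕ)) = c h.last := h.coeff_pol_sum c h.last

theorem PB.psi_sum (c : Fin p → B) :
    h.psi (∑ j, i (c j) * x ^ (j : ℕ)) = ∑ j : Fin p, c j ^ p * b₀ ^ (j : ℕ) - c h.last := by
  rw [h.psi_apply, h.tr_sum, h.rho_eq]
  congr 1
  exact Finset.sum_congr rfl fun j _ => by rw [h.coeff_pol_sum]

end psi

end K674.PBasis

namespace K674.PolyPrim

open K674.PBasis

variable {p : ℕ} {R : Type u} [CommRing R] {i : R →+* R} {ϖ : R} (h : PB p i ϖ ϖ) (hi : ∀ r, i r = r ^ p)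

/-- `C(∑ c_j ^ p ϖ ^ j) = c_(p-1)`. -/
def Ct : R →+ R := AddMonoidHom.mk' h.tr h.tr_add

include hi in
theorem Ct_sum (c : Fin p → R) : Ct h (∑ j, c j ^ p * ϖ ^ (j : ℕ)) = c h.last := by
  have h1 := h.tr_sum c
  simp only [hi] at h1
  exact h1

include h in
theorem add_pow' (a b : R[X]) : (a + b) ^ p = a ^ p + b ^ p := by
  have hp : Fact p.Prime := ⟨h.prime⟩
  have h0 : (p : R[X]) = 0 := by rw [← map_natCast C, h.zero, C_0]
  exact map_add (FrobSch.powHom p R[X] h0) a b

/-- The map `Ψ`. -/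
def Psi : (Fin p → R[X]) →+ R[X] :=
  AddMonoidHom.mk' (fun c => ∑ j : Fin p, c j ^ p * C ϖ ^ (j : ℕ) - c h.last) (fun c d => by
    simp only [Pi.add_apply, add_pow' h, add_mul, Finset.sum_add_distrib]
    abel)

theorem Psi_apply (c : Fin p → R[X]) : Psi h c = ∑ j : Fin p, c j ^ p * C ϖ ^ (j : ℕ) - c h.last := rfl

/-- The image of `Ψ`. -/
def S : AddSubgroup R[X] := (Psi h).range

theorem Psi_mem (c : Fin p → R[X]) : Psi h c ∈ S h := ⟨c, rfl⟩

theorem Psi_comp (c : Fin p → R[X]) (q : R[X]) : (Psi h c).comp q = Psi h (fun j => (c j).comp q) := by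
  rw [Psi_apply, Psi_apply, sub_comp, Polynomial.sum_comp]
  congr 1
  refine Finset.sum_congr rfl fun j _ => ?_
  rw [mul_comp, pow_comp, pow_comp, C_comp]

theorem comp_mem {a : R[X]} (ha : a ∈ S h) (q : R[X]) : a.comp q ∈ S h := by
  obtain ⟨c, rfl⟩ := ha
  rw [Psi_comp]
  exact Psi_mem h _

include h in
theorem coeff_pow (c : R[X]) (n : ℕ) : (c ^ p).coeff n = if p ∣ n then c.coeff (n / p) ^ p else 0 := by
  have hp : Fact p.Prime := ⟨h.prime⟩
  rcases subsingleton_or_nontrivial R with hR | hR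
  · exact Subsingleton.elim _ _
  have hc : CharP R p := (CharP.charP_iff_prime_eq_zero h.prime).2 h.zero
  rw [← map_frobenius_expand, coeff_map, coeff_expand h.prime.pos]
  split_ifs
  · rfl
  · exact map_zero _

theorem coeff_Psi_mul (c : Fin p → R[X]) (n : ℕ) :
    (Psi h c).coeff (p * n) = ∑ j : Fin p, (c j).coeff n ^ p * ϖ ^ (j : ℕ) - (c h.last).coeff (p * n) := by
  rw [Psi_apply, coeff_sub, finsetSum_coeff]
  congr 1
  refine Finset.sum_congr rfl fun j _ => ?_
  rw [← C_pow, coeff_mul_C, coeff_pow h, if_pos (Dvd.intro _ rfl), Nat.mul_div_cancel_left _ h.prime.pos]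

theorem coeff_Psi (c : Fin p → R[X]) {n : ℕ} (hn : ¬ p ∣ n) : (Psi h c).coeff n = - (c h.last).coeff n := by
  rw [Psi_apply, coeff_sub, finsetSum_coeff, Finset.sum_eq_zero, zero_sub]
  intro j _
  rw [← C_pow, coeff_mul_C, coeff_pow h, if_neg hn, zero_mul]

/-- The functional `∑_k C^k (a_(n p^k))`, truncated. -/
def Lam (n N : ℕ) (a : R[X]) : R := ∑ k ∈ Finset.range N, (Ct h)^[k] (a.coeff (n * p ^ k))

theorem iter_add (k : ℕ) (a b : R) : (Ct h)^[k] (a + b) = (Ct h)^[k] a + (Ct h)^[k] b :=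
  iterate_map_add (Ct h) k a b

theorem iter_neg (k : ℕ) (a : R) : (Ct h)^[k] (-a) = -(Ct h)^[k] a := iterate_map_neg (Ct h) k a

theorem iter_zero (k : ℕ) : (Ct h)^[k] 0 = 0 := iterate_map_zero (Ct h) k

include hi in
theorem Lam_Psi (c : Fin p → R[X]) {n : ℕ} (hn : ¬ p ∣ n) (N : ℕ) :
    Lam h n (N + 1) (Psi h c) = - (Ct h)^[N] ((c h.last).coeff (n * p ^ N)) := by
  induction N with
  | zero =>
    rw [Lam, Finset.sum_range_one, pow_zero, mul_one, coeff_Psi h c hn]
    rfl
  | succ N ih =>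
    rw [Lam, Finset.sum_range_succ, ← Lam, ih]
    have e : n * p ^ (N + 1) = p * (n * p ^ N) := by ring
    rw [e, coeff_Psi_mul, sub_eq_add_neg, iter_add, iter_neg, Function.iterate_succ_apply, Ct_sum h hi]
    ring

theorem lt_mul_pow {n : ℕ} (hp : 1 < p) (hn : 0 < n) (N : ℕ) : N < n * p ^ N :=
  (Nat.lt_pow_self hp).trans_le (Nat.le_mul_of_pos_left _ hn)

include hi in
theorem exists_Lam {a : R[X]} (ha : a ∈ S h) {n : ℕ} (hn : ¬ p ∣ n) :
    ∃ N₀, ∀ N, N₀ ≤ N → Lam h n (N + 1) a = 0 := by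
  obtain ⟨c, rfl⟩ := ha
  refine ⟨(c h.last).natDegree, fun N hN => ?_⟩
  rw [Lam_Psi h hi c hn, coeff_eq_zero_of_natDegree_lt, iter_zero, neg_zero]
  refine hN.trans_lt (lt_mul_pow h.prime.one_lt (Nat.pos_of_ne_zero ?_) N)
  rintro rfl
  exact hn (dvd_zero _)

include hi in
theorem eq_zero_of_mem {c : R} (hc : C c * X ∈ S h) : c = 0 := by
  obtain ⟨N, hN⟩ := exists_Lam h hi hc (n := 1) (fun e => h.prime.one_lt.ne' (Nat.dvd_one.1 e))
  have h1 := hN N le_rfl
  rw [Lam, Finset.sum_eq_single_of_mem 0 (Finset.mem_range.2 (Nat.succ_pos _))] at h1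
  · simpa using h1
  · intro k _ hk
    rw [one_mul, coeff_C_mul_X, if_neg, iter_zero]
    exact (Nat.one_lt_pow hk h.prime.one_lt).ne'

/-- Normal forms. -/
def NF (p : ℕ) (R : Type u) [CommRing R] : AddSubgroup R[X] where
  carrier := {b | ∀ n, 0 < n → p ∣ n → b.coeff n = 0}
  zero_mem' n _ _ := coeff_zero n
  add_mem' ha hb n h1 h2 := by rw [coeff_add, ha n h1 h2, hb n h1 h2, add_zero]
  neg_mem' ha n h1 h2 := by rw [coeff_neg, ha n h1 h2, neg_zero]

include hi in
theorem monomial_mem (n : ℕ) : ∀ s : R, monomial n s ∈ NF p R ⊔ S h := by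
  induction n using Nat.strong_induction_on with
  | h n ih =>
    intro s
    by_cases hn : 0 < n ∧ p ∣ n
    · obtain ⟨h1, m, rfl⟩ := hn
      obtain ⟨c, hc⟩ := h.ex s
      simp only [hi] at hc
      have hm : m < p * m := by
        have h2 : 0 < m := Nat.pos_of_mul_pos_left (a := p) h1 |> fun e => by
          rcases Nat.eq_zero_or_pos m with h3 | h3
          · rw [h3, mul_zero] at h1
            exact absurd h1 (lt_irrefl _)
          · exact h3
        calc m = 1 * m := (one_mul m).symm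
          _ < p * m := Nat.mul_lt_mul_of_pos_right h.prime.one_lt h2
      have h3 : monomial (p * m) s = Psi h (fun j => monomial m (c j)) + monomial m (c h.last) := by
        rw [Psi_apply, sub_add_cancel, hc, map_sum]
        refine Finset.sum_congr rfl fun j _ => ?_
        rw [monomial_pow, ← C_pow, monomial_mul_C, mul_comm p m]
      rw [h3]
      exact add_mem ((le_sup_right : S h ≤ _) (Psi_mem h _)) (ih m hm _)
    · refine (le_sup_left : NF p R ≤ _) fun l hl hpl => ?_
      rw [coeff_monomial, if_neg]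
      rintro rfl
      exact hn ⟨hl, hpl⟩

include hi in
theorem exists_nf (a : R[X]) : ∃ b ∈ NF p R, a - b ∈ S h := by
  have h1 : a ∈ NF p R ⊔ S h := by
    rw [← a.sum_monomial_eq]
    exact sum_mem fun n _ => monomial_mem h hi n _
  obtain ⟨b, hb, w, hw, rfl⟩ := AddSubgroup.mem_sup.1 h1
  exact ⟨b, hb, by rwa [add_sub_cancel_left]⟩

include hi in
/-- Additive polynomials modulo `Ψ` are linear. -/
theorem exists_linear [IsDomain R] [Infinite R] (a : R[X])
    (ha : ∀ s : R, a.comp (C (s + 1) * X) - a.comp (C s * X) - a ∈ S h) : ∃ c : R, a - C c * X ∈ S h := by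
  obtain ⟨b, hb, hab⟩ := exists_nf h hi a
  have hp : Fact p.Prime := ⟨h.prime⟩
  have hc : CharP R p := (CharP.charP_iff_prime_eq_zero h.prime).2 h.zero
  -- the same condition for the normal form
  have hb' : ∀ s : R, b.comp (C (s + 1) * X) - b.comp (C s * X) - b ∈ S h := by
    intro s
    have h1 := sub_mem (sub_mem (comp_mem h hab (C (s + 1) * X)) (comp_mem h hab (C s * X))) hab
    have h2 := sub_mem (ha s) h1
    simp only [sub_comp] at h2
    convert h2 using 1
    ring
  have hcoeff : ∀ (s : R) (n : ℕ), (b.comp (C (s + 1) * X) - b.comp (C s * X) - b).coeff n =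
      b.coeff n * ((s + 1) ^ n - s ^ n - 1) := by
    intro s n
    rw [coeff_sub, coeff_sub, comp_C_mul_X_coeff, comp_C_mul_X_coeff]
    ring
  have h3 : ∀ n, 2 ≤ n → b.coeff n = 0 := by
    intro n hn
    by_cases hpn : p ∣ n
    · exact hb n (by omega) hpn
    by_contra hne
    have h4 : ∀ s : R, (s + 1) ^ n - s ^ n - 1 = 0 := by
      intro s
      obtain ⟨N, hN⟩ := exists_Lam h hi (hb' s) hpn
      have h5 := hN N le_rfl
      rw [Lam, Finset.sum_eq_single_of_mem 0 (Finset.mem_range.2 (Nat.succ_pos _))] at h5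
      · rw [pow_zero, mul_one, Function.iterate_zero, id, hcoeff] at h5
        exact (mul_eq_zero.1 h5).resolve_left hne
      · intro k _ hk
        rw [hcoeff, hb (n * p ^ k) (Nat.mul_pos (by omega) (pow_pos h.prime.pos k)) (dvd_mul_of_dvd_right (dvd_pow_self p hk) n), zero_mul, iter_zero]
    have h6 : ((X + 1 : R[X]) ^ n - X ^ n - 1) = 0 := by
      refine Polynomial.funext fun s => ?_
      rw [eval_zero]
      simpa using h4 s
    have h7 := congrArg (fun q => q.coeff (n - 1)) h6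
    simp only [coeff_sub, coeff_zero, coeff_X_add_one_pow, coeff_X_pow, coeff_one] at h7
    rw [if_neg (by omega), if_neg (by omega), sub_zero, sub_zero, Nat.choose_symm (by omega), Nat.choose_one_right, CharP.cast_eq_zero_iff R p] at h7
    exact hpn h7
  have h9 : b = C (b.coeff 0) + C (b.coeff 1) * X := by
    ext n
    rw [coeff_add, coeff_C, coeff_C_mul_X]
    rcases n with _ | _ | n
    · simp
    · simp
    · rw [if_neg (by omega), if_neg (by omega), add_zero]
      exact h3 _ (by omega)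
  have h10 : C (b.coeff 0) ∈ S h := by
    have h11 := hb' 0
    have h12 : b.comp (C (0 + 1) * X) - b.comp (C 0 * X) - b = - C (b.coeff 0) := by
      rw [zero_add, C_1, one_mul, C_0, zero_mul, comp_X, comp_zero, ← coeff_zero_eq_eval_zero]
      ring
    rw [h12] at h11
    exact neg_mem_iff.1 h11
  refine ⟨b.coeff 1, ?_⟩
  have h13 : a - C (b.coeff 1) * X = (a - b) + C (b.coeff 0) := by
    nth_rewrite 2 [h9]
    ring
  rw [h13]
  exact add_mem hab h10

end K674.PolyPrim
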