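import Groth.Agent.GaDual.K674.LogDie
import Groth.Agent.GaDual.K674.PolyPrim

/-!
# `H^2(X, dual G_a)` as an ideal of the ring of functions

`exists_beta`: for `X` affine with a `p`-basis of length one and factorial ring of functions `A`, every evaluation
pairing gives `β : Z ⟶ A` with the kernel of `Z ⟶ H^2(X, Gad)`, linear for the action of `A` on `Gad` (so that its image
is an ideal).
-/

set_option autoImplicit false
set_option linter.unusedSectionVars false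
universe u
open CategoryTheory CategoryTheory.Limits AlgebraicGeometry Opposite

noncomputable section

namespace K674.RankOne

open K674.PBasis K674.PushF K674.FrobKill K674.LogPB K674.LogSeq K674.LogDie K674.EvTwo K986.GaRetr K771.Pts
  K771.RedExt K771.Char Groth.Agent.Etdl.H432.Sec K828

local notation "𝒦" => Scheme.fppfPrecoverage

variable {X : Scheme.{u}} [IsAffine X]

theorem ro_tm (T : Over X) (a : Γ(X, ⊤)) : ro (tm T) a = T.hom.appTop.hom a := by
  have h1 : (tm T).left = T.hom := (Category.comp_id _).symm.trans (Over.w (tm T))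
  change (tm T).left.appTop.hom a = _
  rw [h1]

/-- Functions on the affine line. -/
theorem exists_eG : ∃ ε : Polynomial Γ(X, ⊤) ≃+* O (Red.Ga X),
    (∀ a, ε (Polynomial.C a) = (Red.Ga X).hom.appTop.hom a) ∧ ε Polynomial.X = ga (un X) := by
  let T₀ : Over X := Over.mk (𝟙 X)
  have hT₀ : IsAffine T₀.left := inferInstanceAs (IsAffine X)
  let α : O T₀ →+* Polynomial (O T₀) := Polynomial.C
  let φ : Red.Ga X ≅ K771.Aff.aff α := K771.PicUfd.gaIso X
  have hinv : φ.inv = pt (gas (K771.Aff.e α Polynomial.X)) := rfl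
  let ψ : O (K771.Aff.aff α) ≃+* O (Red.Ga X) :=
    { toFun := ro φ.hom
      invFun := ro φ.inv
      left_inv := fun a => by rw [ro_ro, φ.inv_hom_id, ro_id]
      right_inv := fun a => by rw [ro_ro, φ.hom_inv_id, ro_id]
      map_mul' := map_mul _
      map_add' := map_add _ }
  refine ⟨(K771.Aff.e α).trans ψ, fun a => ?_, ?_⟩
  · change ro φ.hom (K771.Aff.e α (α a)) = _
    rw [← K771.Aff.ro_π, ro_ro, ← ro_tm]
    exact ro_congr (Over.mkIdTerminal.hom_ext _ _) _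
  · change ro φ.hom (K771.Aff.e α Polynomial.X) = _
    have h1 : ro φ.inv (ga (un X)) = K771.Aff.e α Polynomial.X := by
      rw [hinv, ← ga_r, r_pt_un, ga_gas]
    rw [← h1, ro_ro, φ.hom_inv_id, ro_id]

variable (p : ℕ) [hp : Fact p.Prime] [FrobSch.IsCharP X p] {ϖ : Γ(X, ⊤)} (h₀ : PBX p ϖ) [IsAffine (Red.Ga X).left]

section range

variable (ε : Polynomial Γ(X, ⊤) ≃+* O (Red.Ga X)) (hε : ∀ a, ε (Polynomial.C a) = (Red.Ga X).hom.appTop.hom a)

include hε in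
theorem psi_range (a : Γs (Ga X) (Red.Ga X)) :
    (∃ y, m (LogSeq.psi p h₀) (Red.Ga X) y = a) ↔ ε.symm (ga a) ∈ PolyPrim.S h₀ := by
  have key : ∀ c : Fin p → O (Red.Ga X), ε.symm ((pbT p h₀ (Red.Ga X)).psi
      (∑ j, ro (pp (Fr p) (Red.Ga X)) (c j) * (lamT (Fr p) ϖ (Red.Ga X)) ^ (j : ℕ))) =
        PolyPrim.Psi h₀ (fun j => ε.symm (c j)) := by
    intro c
    rw [PB.psi_sum, PolyPrim.Psi_apply, map_sub, map_sum]
    congr 1
    refine Finset.sum_congr rfl fun j _ => ?_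
    rw [map_mul, map_pow, map_pow, ← hε, RingEquiv.symm_apply_apply]
  constructor
  · rintro ⟨y, rfl⟩
    rw [ga_psi]
    obtain ⟨c, hc⟩ := (pbT p h₀ (Red.Ga X)).ex (ga (sp p y))
    rw [hc, key]
    exact PolyPrim.Psi_mem h₀ _
  · rintro ⟨c, hc⟩
    refine ⟨ps (Fr p) (gas (∑ j, ro (pp (Fr p) (Red.Ga X)) (ε (c j)) * (lamT (Fr p) ϖ (Red.Ga X)) ^ (j : ℕ))), ?_⟩
    apply ga_injective
    rw [ga_psi, sp_ps, ga_gas]
    apply ε.symm.injective
    rw [key, ← hc]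
    congr 1
    funext j
    exact ε.symm_apply_apply _

/-- The section `c x` of `G_a` over the affine line. -/
def lin (c : Γ(X, ⊤)) : Γs (Ga X) (Red.Ga X) := m (mulGa c) (Red.Ga X) (un X)

/-- Multiplication by `c` on the affine line. -/
def mu (c : Γ(X, ⊤)) : Red.Ga X ⟶ Red.Ga X := pt (lin c)

theorem r_mu_un (c : Γ(X, ⊤)) : r (Ga X) (mu c) (un X) = lin c := r_pt_un _

variable (hεX : ε Polynomial.X = ga (un X))

include hε hεX in
theorem ga_lin (c : Γ(X, ⊤)) : ga (lin c) = ε (Polynomial.C c * Polynomial.X) := by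
  rw [lin, m_mulGa, ga_gas, ro_tm, map_mul, hε, hεX]

include hε hεX in
theorem symm_r_mu (c : Γ(X, ⊤)) (a : Γs (Ga X) (Red.Ga X)) :
    ε.symm (ga (r (Ga X) (mu c) a)) = (ε.symm (ga a)).comp (Polynomial.C c * Polynomial.X) := by
  have h1 : ((ε.symm : O (Red.Ga X) →+* _).comp (ro (mu c))).comp (ε : _ →+* O (Red.Ga X)) =
      Polynomial.compRingHom (Polynomial.C c * Polynomial.X) := by
    refine Polynomial.ringHom_ext (fun a => ?_) ?_
    · change ε.symm (ro (mu c) (ε (Polynomial.C a))) = (Polynomial.C a).comp _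
      rw [hε, ← ro_tm, ro_ro, Polynomial.C_comp]
      have h2 : mu c ≫ tm (Red.Ga X) = tm (Red.Ga X) := comp_tm _
      rw [h2, ro_tm, ← hε, RingEquiv.symm_apply_apply]
    · change ε.symm (ro (mu c) (ε Polynomial.X)) = Polynomial.X.comp _
      rw [hεX, ← ga_r, r_mu_un, ga_lin ε hε hεX, RingEquiv.symm_apply_apply, Polynomial.X_comp]
  have h2 := congr($h1 (ε.symm (ga a)))
  change ε.symm (ro (mu c) (ε (ε.symm (ga a)))) = _ at h2
  rw [RingEquiv.apply_symm_apply, ← ga_r] at h2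
  exact h2

end range

theorem lin_add (c d : Γ(X, ⊤)) : lin (c + d) = lin c + lin d := by
  apply ga_injective
  rw [ga_add, lin, lin, lin, m_mulGa, m_mulGa, m_mulGa, ga_gas, ga_gas, ga_gas, map_add, add_mul]

theorem lin_one : lin (1 : Γ(X, ⊤)) = un X := by
  apply ga_injective
  rw [lin, m_mulGa, ga_gas, map_one, one_mul]

theorem r_mu_lin (c d : Γ(X, ⊤)) : r (Ga X) (mu c) (lin d) = lin (c * d) := by
  have h1 : r (Ga X) (mu c) (lin d) = m (mulGa d) _ (lin c) := by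
    rw [lin, ← m_r, r_mu_un]
  rw [h1]
  apply ga_injective
  rw [m_mulGa, lin, lin, m_mulGa, m_mulGa, ga_gas, ga_gas, ga_gas, map_mul]
  ring

theorem lin_zero : lin (0 : Γ(X, ⊤)) = 0 := by
  apply ga_injective
  rw [lin, m_mulGa, ga_gas, map_zero, zero_mul, ga_zero]

variable (𝓗 : CohT 𝒦 X) (V : Eval 𝓗)

omit [IsAffine (Red.Ga X).left] in
/-- The classes of the pairing die on the base change by Frobenius. -/
theorem E_pp (z : V.Z) {T : Over X} (y : Γs (Ga X) T) : 𝓗.res (pp (Fr p) T) (V.E T z y) = 0 := by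
  rw [V.nat]
  have h1 : 𝓗.res (tm (tw p (Over.mk (𝟙 X)))) (V.α z) = 0 := by
    have h2 : tm (tw p (Over.mk (𝟙 X))) = τ p (Over.mk (𝟙 X)) := Over.mkIdTerminal.hom_ext _ _
    rw [h2]
    exact res_gad p 𝓗 _
  exact V.kill z (V := tw p (Over.mk (𝟙 X))) (inferInstanceAs (IsAffine X)) h1
    ((Over.map (FrobSch.frob X p)).map (Over.mkIdTerminal.from ((Over.pullback (FrobSch.frob X p)).obj T))) _

variable [IsDomain Γ(X, ⊤)] [UniqueFactorizationMonoid Γ(X, ⊤)] [Infinite Γ(X, ⊤)]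

include h₀ in
theorem exists_beta (hGa : ∀ (T : Over X), IsAffine T.left → ∀ x : 𝓗.H (Ga X) 1 T, x = 0) :
    ∃ β : V.Z →+ Γ(X, ⊤), (∀ z, β z = 0 ↔ V.α z = 0) ∧
      ∀ (a : Γ(X, ⊤)) (z : V.Z), ∃ z', V.α z' = 𝓗.map (mulGad a) (V.α z) ∧ β z' = a * β z := by
  obtain ⟨ε, hε, hεX⟩ := exists_eG (X := X)
  have hi : ∀ a, (FrobSch.frob X p).appTop.hom a = a ^ p := fun a => FrobSch.frob_appTop X p a
  have hL : ∀ q : Γs (K771.PicExt.injSeq (Gm X)).X₃ (GG (Fr p) (Red.Ga X)),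
      ∃ s, m (K771.PicExt.injSeq (Gm X)).g _ s = q :=
    fun q => exists_lift_line p (K771.PicExt.injSeq_shortExact (Gm X)) (Iso.refl _) q
  have key : ∀ z : V.Z, ∃ c : Γ(X, ⊤), dl p h₀ 𝓗 (Red.Ga X) (lin c) = V.E (Red.Ga X) z (un X) := by
    intro z
    obtain ⟨a, ha⟩ := exists_dl p h₀ 𝓗 (T := Red.Ga X) (hGa _ inferInstance) (V.E (Red.Ga X) z (un X)) (E_pp p 𝓗 V z _)
    have h1 : ∀ s : Γ(X, ⊤), dl p h₀ 𝓗 (Red.Ga X) (r (Ga X) (mu s) a) = V.E (Red.Ga X) z (lin s) := by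
      intro s
      rw [← res_dl, ha, V.nat, r_mu_un]
    have h2 : ∀ s : Γ(X, ⊤), dl p h₀ 𝓗 (Red.Ga X) (r (Ga X) (mu (s + 1)) a - r (Ga X) (mu s) a - a) = 0 := by
      intro s
      rw [map_sub, map_sub, h1, h1, ha, lin_add, lin_one, map_add]
      abel
    obtain ⟨c, hc⟩ := PolyPrim.exists_linear h₀ hi (ε.symm (ga a)) (fun s => by
      have h3 := (psi_range p h₀ ε hε _).1 (exists_psi p h₀ 𝓗 hL _ (h2 s))
      rwa [ga_sub, ga_sub, map_sub, map_sub, symm_r_mu ε hε hεX, symm_r_mu ε hε hεX] at h3)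
    refine ⟨c, ?_⟩
    have h4 : ε.symm (ga (a - lin c)) ∈ PolyPrim.S h₀ := by
      rwa [ga_sub, ga_lin ε hε hεX, map_sub, RingEquiv.symm_apply_apply]
    obtain ⟨y, hy⟩ := (psi_range p h₀ ε hε _).2 h4
    have h5 : dl p h₀ 𝓗 (Red.Ga X) (a - lin c) = 0 := by
      rw [← hy, dl_psi]
    rw [map_sub, sub_eq_zero, ha] at h5
    exact h5.symm
  have huniq : ∀ c : Γ(X, ⊤), dl p h₀ 𝓗 (Red.Ga X) (lin c) = 0 → c = 0 := by
    intro c hc
    have h3 := (psi_range p h₀ ε hε _).1 (exists_psi p h₀ 𝓗 hL _ hc)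
    rw [ga_lin ε hε hεX, RingEquiv.symm_apply_apply] at h3
    exact PolyPrim.eq_zero_of_mem h₀ hi h3
  choose b hb using key
  have hlin_sub : ∀ c d : Γ(X, ⊤), lin (c - d) = lin c - lin d := by
    intro c d
    have h1 := lin_add (c - d) d
    rw [sub_add_cancel] at h1
    rw [h1, add_sub_cancel_right]
  have hinj : ∀ c d : Γ(X, ⊤), dl p h₀ 𝓗 (Red.Ga X) (lin c) = dl p h₀ 𝓗 (Red.Ga X) (lin d) → c = d := by
    intro c d hcd
    rw [← sub_eq_zero, ← map_sub, ← hlin_sub] at hcd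
    exact sub_eq_zero.1 (huniq _ hcd)
  let β : V.Z →+ Γ(X, ⊤) := AddMonoidHom.mk' b (fun z z' => hinj _ _ (by
    rw [hb, map_add, lin_add, map_add, hb, hb]
    rfl))
  refine ⟨β, fun z => ?_, fun a z => ?_⟩
  · rw [V.iff, ← hb]
    constructor
    · intro h1
      have h2 : b z = 0 := h1
      rw [h2, lin_zero, map_zero]
    · intro h1
      exact huniq _ h1
  · obtain ⟨z', hz₀, hz'⟩ := V.mul a z
    refine ⟨z', hz₀, hinj _ _ ?_⟩
    change dl p h₀ 𝓗 (Red.Ga X) (lin (b z')) = _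
    rw [hb, hz', ← r_mu_lin, ← res_dl]
    change V.E (Red.Ga X) z (lin a) = 𝓗.res (mu a) (dl p h₀ 𝓗 (Red.Ga X) (lin (b z)))
    rw [hb, V.nat, r_mu_un]

end K674.RankOne
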