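import Mathlib.SetTheory.Cardinal.Arithmetic
import Mathlib.Algebra.FreeAbelianGroup.Finsupp
import Mathlib.Algebra.MvPolynomial.Basic
import Mathlib.Data.Finsupp.Encodable

/-!
# Types which inject into a fixed infinite type

`Sm K X : Prop` (a class): there is an injection `X → K`; `K` infinite.  Closed under countable types, sigma types,
finite products, subtypes, finite subsets, free abelian groups, polynomials.
-/

set_option autoImplicit false
universe w v u u'

open Cardinal

namespace K674.Small

/-- `X` injects into `K`. -/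
class Sm (K : Type w) (X : Type v) : Prop where
  exists_inj : ∃ f : X → K, Function.Injective f

variable {K : Type w}

theorem Sm.of_injective {X : Type u} {Y : Type v} {f : X → Y} (hf : Function.Injective f) [h : Sm K Y] : Sm K X := by
  obtain ⟨g, hg⟩ := h.exists_inj
  exact ⟨g ∘ f, hg.comp hf⟩

theorem Sm.of_surjective {X : Type u} {Y : Type v} {f : X → Y} (hf : Function.Surjective f) [h : Sm K X] : Sm K Y := by
  obtain ⟨g, hg⟩ := hf.hasRightInverse
  exact Sm.of_injective hg.injective (f := g)

instance self : Sm K K := ⟨id, Function.injective_id⟩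

variable [Infinite K]

instance (priority := 100) of_countable (X : Type u) [Countable X] : Sm K X := by
  obtain ⟨f, hf⟩ := exists_injective_nat X
  exact ⟨Infinite.natEmbedding K ∘ f, (Infinite.natEmbedding K).injective.comp hf⟩

theorem exists_pair : ∃ f : K × K → K, Function.Injective f := by
  have h : #(K × K) ≤ #K := by
    rw [Cardinal.mk_prod, Cardinal.lift_id, Cardinal.mul_eq_self (Cardinal.aleph0_le_mk K)]
  obtain ⟨f⟩ := h
  exact ⟨f, f.injective⟩

instance prodK : Sm K (K × K) := ⟨exists_pair⟩

instance prod (X : Type u) (Y : Type v) [hX : Sm K X] [hY : Sm K Y] : Sm K (X × Y) := by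
  obtain ⟨f, hf⟩ := hX.exists_inj
  obtain ⟨g, hg⟩ := hY.exists_inj
  exact Sm.of_injective (f := Prod.map f g) (hf.prodMap hg)

instance sigma (X : Type u) (Y : X → Type v) [hX : Sm K X] [hY : ∀ x, Sm K (Y x)] : Sm K (Σ x, Y x) := by
  obtain ⟨f, hf⟩ := hX.exists_inj
  choose g hg using fun x => (hY x).exists_inj
  refine Sm.of_injective (Y := K × K) (f := fun z => (f z.1, g z.1 z.2)) ?_
  rintro ⟨x, y⟩ ⟨x', y'⟩ h
  obtain ⟨h1, h2⟩ := Prod.mk.inj h
  obtain rfl := hf h1
  obtain rfl := hg _ h2
  rfl

instance subtype (X : Type u) (P : X → Prop) [Sm K X] : Sm K {x // P x} :=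
  Sm.of_injective Subtype.val_injective

instance ulift (X : Type u) [Sm K X] : Sm K (ULift.{v} X) :=
  Sm.of_injective ULift.down_injective

instance listK : Sm K (List K) := by
  have h : #(List K) ≤ #K := (Cardinal.mk_list_eq_mk K).le
  obtain ⟨f⟩ := h
  exact ⟨f, f.injective⟩

instance finK (n : ℕ) : Sm K (Fin n → K) := by
  refine Sm.of_injective (Y := List K) (f := List.ofFn) List.ofFn_injective

instance piFin {n : ℕ} (P : Fin n → Type u) [h : ∀ i, Sm K (P i)] : Sm K (∀ i, P i) := by
  choose g hg using fun x => (h x).exists_inj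
  exact Sm.of_injective (Y := Fin n → K) (f := fun z i => g i (z i)) fun z z' h => funext fun i => hg i (congrFun h i)

instance finsetK : Sm K (Finset K) := by
  have h : #(Finset K) ≤ #K := (Cardinal.mk_finset_of_infinite K).le
  obtain ⟨f⟩ := h
  exact ⟨f, f.injective⟩

instance finset (X : Type u) [h : Sm K X] : Sm K (Finset X) := by
  obtain ⟨f, hf⟩ := h.exists_inj
  exact Sm.of_injective (Y := Finset K) (f := Finset.map ⟨f, hf⟩) (Finset.map_injective _)

instance finsupp (X : Type u) (Y : Type v) [Zero Y] [Sm K X] [Sm K Y] : Sm K (X →₀ Y) :=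
  Sm.of_injective (Finsupp.graph_injective X Y)

theorem freeAbelianGroup (X : Type u) [Sm K X] : Sm K (FreeAbelianGroup X) :=
  Sm.of_injective (FreeAbelianGroup.equivFinsupp X).injective

theorem mvPolynomial (R : Type u) [CommRing R] (σ : Type v) [Sm K σ] [Sm K R] : Sm K (MvPolynomial σ R) := by
  have h1 : Sm K ((σ →₀ ℕ) →₀ R) := inferInstance
  exact Sm.of_injective (f := fun q : MvPolynomial σ R => (AddMonoidAlgebra.coeffEquiv q : (σ →₀ ℕ) →₀ R)) (Equiv.injective _)

end K674.Small
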